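import Groth.Prelude.Def_RootCh
import Mathlib.LinearAlgebra.RootSystem.BaseExists
import Mathlib.LinearAlgebra.RootSystem.Finite.Nondegenerate
import Mathlib.Data.Sign.Basic
import Groth.Agent.Lib.RootDatum.Sub
import Groth.Agent.H84.BaseBridge

/-! Bases, positive roots and expansions in fundamental weights for a root system over an ordered
field. -/

noncomputable section

open Set Function Module
open scoped Classical
open Groth.Agent.Lib.RootDatum Groth.Agent.Lib.RootDatum.Basic Groth.Agent.Lib.RootDatum.PosSys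

namespace Groth.Agent.H84.RC

variable {ι R M N : Type*} [Field R] [LinearOrder R] [IsStrictOrderedRing R]
  [AddCommGroup M] [Module R M] [AddCommGroup N] [Module R N] [Finite ι]
  {P : RootPairing ι R M N} [P.IsRootSystem] [P.IsCrystallographic] [P.IsReduced]

lemma root'_negIdx (i : ι) (x : N) : P.root' (negIdx P i) x = -P.root' i x := by
  simp [RootPairing.root']

lemma coroot'_negIdx (i : ι) (ξ : M) : P.coroot' (negIdx P i) ξ = -P.coroot' i ξ := by
  simp [RootPairing.coroot']

omit [Finite ι] [P.IsCrystallographic] [P.IsReduced] in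
lemma rf_coroot' [Fintype ι] (j : ι) (ξ : M) :
    P.RootForm (P.root j) (P.root j) * P.coroot' j ξ = 2 * P.RootForm (P.root j) ξ := by
  have h := congrArg (P.toLinearMap ξ) (P.rootForm_self_smul_coroot j)
  rw [map_smul, map_nsmul, P.toLinearMap_apply_apply_Polarization, nsmul_eq_mul, smul_eq_mul] at h
  exact_mod_cast h

omit [Finite ι] [P.IsCrystallographic] [P.IsReduced] in
lemma rf_pos [Fintype ι] {x : M} (h : x ≠ 0) : 0 < P.RootForm x x :=
  P.rootForm_pos_of_ne_zero (by simp) h

omit [Finite ι] [P.IsCrystallographic] [P.IsReduced] in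
lemma sign_coroot' [Fintype ι] (j : ι) (ξ : M) :
    SignType.sign (P.coroot' j ξ) = SignType.sign (P.RootForm ξ (P.root j)) := by
  have h := congrArg SignType.sign (rf_coroot' (P := P) j ξ)
  rw [sign_mul, sign_mul, sign_pos (rf_pos (P.ne_zero j)), sign_pos (two_pos (α := R)), one_mul,
    one_mul, show P.RootForm (P.root j) ξ = P.RootForm ξ (P.root j) from P.rootForm_symmetric.eq _ _] at h
  exact h

lemma eq_or_eq_negIdx {k i : ι} {c : R} (h : P.root k = c • P.root i) :
    k = i ∨ k = negIdx P i := by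
  rcases RootPairing.IsReduced.eq_or_eq_neg (P := P) k i (fun hli => by
      have := (LinearIndependent.pair_iff.mp hli 1 (-c) (by rw [h, one_smul, neg_smul, add_neg_cancel])).1
      exact one_ne_zero this) with e | e
  · exact Or.inl (P.root.injective e)
  · exact Or.inr (P.root.injective (by rw [e, root_negIdx]))

section Base

variable (b b' : P.Base)

lemma isPos_negIdx (i : ι) : b.IsPos (negIdx P i) ↔ ¬ b.IsPos i :=
  RootPairing.Base.IsPos.neg_iff_not b i

lemma isPosSys : RootD.IsPosSys P {i | b.IsPos i} := by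
  have : {i | b.IsPos i} = RootD.posOf P (b.support : Set ι) := by
    ext i; exact BaseBridge.isPos_iff_mem b i
  rw [this]; exact isPosSys_posOf (BaseBridge.isSimpleSys b)

lemma base_ext (h : ∀ i, b.IsPos i ↔ b'.IsPos i) : b = b' := by
  have e : RootD.posOf P (b.support : Set ι) = RootD.posOf P (b'.support : Set ι) := by
    ext i; rw [← BaseBridge.isPos_iff_mem, ← BaseBridge.isPos_iff_mem]; exact h i
  have e2 := congrArg (simples P) e
  rw [simples_posOf (BaseBridge.isSimpleSys b), simples_posOf (BaseBridge.isSimpleSys b')] at e2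
  obtain ⟨s, _, _, _, _⟩ := b
  obtain ⟨s', _, _, _, _⟩ := b'
  simp only [Finset.coe_inj] at e2
  subst e2; rfl

lemma exists_base {S : Set ι} (hS : RootD.IsPosSys P S) : ∃ b : P.Base, ∀ i, b.IsPos i ↔ i ∈ S := by
  have hΔ := isSimpleSys_simples P hS
  refine ⟨RootPairing.Base.mk' P (simples P S) hΔ.linInd hΔ.mem_or_neg_mem, fun i => ?_⟩
  rw [BaseBridge.isPos_iff_mem,
    show ((RootPairing.Base.mk' P (simples P S) hΔ.linInd hΔ.mem_or_neg_mem).support : Set ι)
      = simples P S from Set.Finite.coe_toFinset _, posOf_simples P hS]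

/-- Refining the order given by a linear form by a base on its zero set. -/
lemma exists_base_refine (φ : Dual R M) (b₀ : P.Base) :
    ∃ b : P.Base, ∀ i, b.IsPos i ↔ 0 < φ (P.root i) ∨ (φ (P.root i) = 0 ∧ b₀.IsPos i) := by
  have hS := Sub.isPosSys_refine P (fun i => φ (P.root i))
    (fun i => by simp) (fun i j k h => by simp [h])
    {i | φ (P.root i) = 0 ∧ b₀.IsPos i} (fun i hi => hi.1)
    (fun i hi hn => (isPos_negIdx b₀ i).mp hn.2 hi.2)
    (fun i hi => (em (b₀.IsPos i)).imp (fun h => ⟨hi, h⟩)
      fun h => ⟨by simp [hi], (isPos_negIdx b₀ i).mpr h⟩)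
    (fun i j k hi hj h => ⟨by simp [h, hi.1, hj.1], RootPairing.Base.IsPos.add hi.2 hj.2 h⟩)
  exact exists_base hS

instance finite_base : Finite P.Base :=
  Finite.of_injective (fun b : P.Base => {i | b.IsPos i})
    fun b b' h => base_ext b b' fun i => Set.ext_iff.mp h i

lemma toLinearMap_fundWeight (i : b.support) :
    P.toLinearMap (RootCh.fundWeight b i) = b.toCoweightBasis.coord i :=
  P.toLinearMap.apply_symm_toPerfPair_self _

lemma root_eq_sum (x : M) :
    x = ∑ i : b.support, P.toLinearMap x (RootCh.fundCoweight b i) • P.root i := by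
  have h := b.toWeightBasis.sum_repr x
  simp only [RootPairing.Base.toWeightBasis_apply] at h
  have key : ∀ i : b.support, P.toLinearMap x (RootCh.fundCoweight b i) = b.toWeightBasis.repr x i := by
    intro i
    conv_lhs => rw [← h]
    rw [map_sum, LinearMap.sum_apply, Finset.sum_eq_single i]
    · have := RootCh.root'_fundCoweight_self b i
      simp only [RootPairing.root'] at this
      rw [map_smul, LinearMap.smul_apply, this, smul_eq_mul, mul_one]
    · intro j _ hj
      have := RootCh.root'_fundCoweight_of_ne b i j hj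
      simp only [RootPairing.root'] at this
      rw [map_smul, LinearMap.smul_apply, this, smul_zero]
    · simp
  simpa only [key] using h.symm

lemma coroot_eq_sum (x : N) :
    x = ∑ i : b.support, P.toLinearMap (RootCh.fundWeight b i) x • P.coroot i := by
  have h := b.toCoweightBasis.sum_repr x
  simp only [RootPairing.Base.toCoweightBasis_apply] at h
  simpa only [toLinearMap_fundWeight, Basis.coord_apply] using h.symm

lemma weight_ext {ξ η : M} (h : ∀ i ∈ b.support, P.coroot' i ξ = P.coroot' i η) : ξ = η := by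
  refine P.toPerfPair.injective (b.toCoweightBasis.ext fun i => ?_)
  rw [b.toCoweightBasis_apply]
  exact h i i.2

lemma coroot'_fundWeight (i j : b.support) :
    P.coroot' j (RootCh.fundWeight b i) = if j = i then 1 else 0 := by
  split_ifs with h
  · rw [h, RootCh.coroot'_fundWeight_self]
  · exact RootCh.coroot'_fundWeight_of_ne b i j h

lemma root'_fundCoweight (i j : b.support) :
    P.root' j (RootCh.fundCoweight b i) = if j = i then 1 else 0 := by
  split_ifs with h
  · rw [h, RootCh.root'_fundCoweight_self]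
  · exact RootCh.root'_fundCoweight_of_ne b i j h

lemma fundWeight_injective : Injective (RootCh.fundWeight b) := by
  intro i j h
  by_contra hne
  have h1 := RootCh.coroot'_fundWeight_self b i
  rw [h, coroot'_fundWeight, if_neg hne] at h1
  exact zero_ne_one h1

lemma fundCoweight_injective : Injective (RootCh.fundCoweight b) :=
  fundWeight_injective (P := P.flip) b.flip

lemma weight_eq_sum (ξ : M) :
    ξ = ∑ i : b.support, P.coroot' i ξ • RootCh.fundWeight b i := by
  refine weight_ext b fun j hj => ?_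
  rw [map_sum, Finset.sum_eq_single ⟨j, hj⟩]
  · rw [map_smul, RootCh.coroot'_fundWeight_self b ⟨j, hj⟩, smul_eq_mul, mul_one]
  · intro i _ hi
    rw [map_smul, RootCh.coroot'_fundWeight_of_ne b i ⟨j, hj⟩ (Ne.symm hi), smul_zero]
  · simp

lemma coweight_eq_sum (x : N) :
    x = ∑ i : b.support, P.root' i x • RootCh.fundCoweight b i :=
  weight_eq_sum (P := P.flip) b.flip x

lemma exists_nat_root' {k : ι} (hk : b.IsPos k) (i : b.support) :
    ∃ n : ℕ, P.root' k (RootCh.fundCoweight b i) = n := by
  obtain ⟨c, -, hnn, hc⟩ := exists_comb (P := P) ((BaseBridge.isPos_iff_mem b k).mp hk)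
  obtain ⟨f, hf, hf' | hf'⟩ := b.exists_root_eq_sum_nat_or_neg k
  · refine ⟨f i, ?_⟩
    have e : P.root' k (RootCh.fundCoweight b i) =
        ∑ j ∈ b.support, (f j : R) * P.root' j (RootCh.fundCoweight b i) := by
      simp only [RootPairing.root', hf', map_sum, LinearMap.sum_apply, map_nsmul,
        LinearMap.smul_apply, nsmul_eq_mul]
    rw [e, Finset.sum_eq_single (i : ι)]
    · rw [RootCh.root'_fundCoweight_self, mul_one]
    · intro j hj hne
      rw [RootCh.root'_fundCoweight_of_ne b i ⟨j, hj⟩ (fun h => hne (congrArg Subtype.val h)), mul_zero]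
    · exact fun h => absurd i.2 h
  · exfalso
    have := (BaseBridge.isPos_iff_mem b (negIdx P k)).mpr (show P.root (negIdx P k) ∈ _ from by
      rw [root_negIdx, hf', neg_neg]
      exact sum_mem fun j hj => nsmul_mem (root_mem_natSpan P (Finset.mem_coe.mpr hj)) _)
    exact (isPos_negIdx b k).mp this hk

lemma root'_nonneg {k : ι} (hk : b.IsPos k) (i : b.support) :
    0 ≤ P.root' k (RootCh.fundCoweight b i) := by
  obtain ⟨n, hn⟩ := exists_nat_root' b hk i
  rw [hn]; exact Nat.cast_nonneg n

/-- A linear form non-negative on the simple roots is non-negative on positive roots. -/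
lemma form_nonneg {φ : Dual R M} (h : ∀ i ∈ b.support, 0 ≤ φ (P.root i)) {k : ι} (hk : b.IsPos k) :
    0 ≤ φ (P.root k) := by
  rw [root_eq_sum b (P.root k), map_sum]
  exact Finset.sum_nonneg fun i _ => by
    rw [map_smul]; exact mul_nonneg (root'_nonneg b hk i) (h i i.2)

lemma form_eq_zero_iff {φ : Dual R M} (h : ∀ i ∈ b.support, 0 ≤ φ (P.root i)) {k : ι} (hk : b.IsPos k) :
    φ (P.root k) = 0 ↔
      ∀ i : b.support, φ (P.root i) ≠ 0 → P.root' k (RootCh.fundCoweight b i) = 0 := by
  conv_lhs => rw [root_eq_sum b (P.root k), map_sum,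
    Finset.sum_eq_zero_iff_of_nonneg fun i _ => by
      rw [map_smul]; exact mul_nonneg (root'_nonneg b hk i) (h i i.2)]
  simp only [Finset.mem_univ, true_implies, map_smul, smul_eq_zero]
  exact ⟨fun H i hi => (H i).resolve_right hi, fun H i => (em (φ (P.root i) = 0)).elim Or.inr
    fun hi => Or.inl (H i hi)⟩

lemma form_pos {φ : Dual R M} (h : ∀ i ∈ b.support, 0 < φ (P.root i)) {k : ι} (hk : b.IsPos k) :
    0 < φ (P.root k) := by
  refine (form_nonneg b (fun i hi => (h i hi).le) hk).lt_of_ne' fun h0 => P.ne_zero k ?_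
  have := (form_eq_zero_iff b (fun i hi => (h i hi).le) hk).mp h0
  rw [root_eq_sum b (P.root k)]
  refine Finset.sum_eq_zero fun i _ => ?_
  rw [show P.toLinearMap (P.root k) (RootCh.fundCoweight b i) = 0 from this i (h i i.2).ne', zero_smul]

/-- A dominant weight pairs non-negatively with positive coroots. -/
lemma coroot'_nonneg {ξ : M} (h : ∀ i ∈ b.support, 0 ≤ P.coroot' i ξ) {k : ι} (hk : b.IsPos k) :
    0 ≤ P.coroot' k ξ := by
  haveI := Fintype.ofFinite ι
  have aux : ∀ j, (0 ≤ P.coroot' j ξ ↔ 0 ≤ P.RootForm ξ (P.root j)) := fun j => by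
    rw [← sign_nonneg_iff, sign_coroot', sign_nonneg_iff]
  rw [aux]
  exact form_nonneg b (φ := P.RootForm ξ) (fun i hi => (aux i).mp (h i hi)) hk

lemma coroot'_eq_zero_iff {ξ : M} (h : ∀ i ∈ b.support, 0 ≤ P.coroot' i ξ) {k : ι} (hk : b.IsPos k) :
    P.coroot' k ξ = 0 ↔
      ∀ i : b.support, P.coroot' i ξ ≠ 0 → P.root' k (RootCh.fundCoweight b i) = 0 := by
  haveI := Fintype.ofFinite ι
  have aux : ∀ j, (0 ≤ P.coroot' j ξ ↔ 0 ≤ P.RootForm ξ (P.root j)) := fun j => by
    rw [← sign_nonneg_iff, sign_coroot', sign_nonneg_iff]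
  have aux0 : ∀ j, (P.coroot' j ξ = 0 ↔ P.RootForm ξ (P.root j) = 0) := fun j => by
    rw [← sign_eq_zero_iff, sign_coroot', sign_eq_zero_iff]
  simp only [ne_eq, aux0]
  exact form_eq_zero_iff b (φ := P.RootForm ξ) (fun i hi => (aux i).mp (h i hi)) hk

lemma coroot'_pos {ξ : M} (h : ∀ i ∈ b.support, 0 < P.coroot' i ξ) {k : ι} (hk : b.IsPos k) :
    0 < P.coroot' k ξ := by
  haveI := Fintype.ofFinite ι
  have aux : ∀ j, (0 < P.coroot' j ξ ↔ 0 < P.RootForm ξ (P.root j)) := fun j => by
    rw [← sign_eq_one_iff, sign_coroot', sign_eq_one_iff]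
  rw [aux]
  exact form_pos b (φ := P.RootForm ξ) (fun i hi => (aux i).mp (h i hi)) hk

lemma rho_pos {k : ι} (hk : b.IsPos k) :
    0 < P.coroot' k (∑ i : b.support, RootCh.fundWeight b i) := by
  refine coroot'_pos b (fun j hj => ?_) hk
  rw [map_sum, Finset.sum_eq_single ⟨j, hj⟩]
  · rw [RootCh.coroot'_fundWeight_self b ⟨j, hj⟩]; exact one_pos
  · intro i _ hi; exact RootCh.coroot'_fundWeight_of_ne b i ⟨j, hj⟩ (Ne.symm hi)
  · simp

/-- A coroot is positive for a base iff the root is. -/
lemma flip_isPos (i : ι) : b.flip.IsPos (P := P.flip) i ↔ b.IsPos i := by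
  have key : ∀ j, b.flip.IsPos (P := P.flip) j →
      0 < P.coroot' j (∑ i : b.support, RootCh.fundWeight b i) := fun j hj =>
    form_pos (P := P.flip) b.flip (φ := P.toLinearMap (∑ i : b.support, RootCh.fundWeight b i))
      (fun l hl => rho_pos b (RootPairing.Base.isPos_of_mem_support hl)) hj
  refine ⟨fun h => ?_, fun h => ?_⟩
  · by_contra h'
    have := rho_pos b ((isPos_negIdx b i).mpr h')
    rw [coroot'_negIdx, neg_pos] at this
    exact lt_asymm this (key i h)
  · by_contra h'
    have := key _ ((isPos_negIdx (P := P.flip) b.flip i).mpr h')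
    change 0 < P.coroot' (negIdx P i) _ at this
    rw [coroot'_negIdx, neg_pos] at this
    exact lt_asymm this (rho_pos b h)

lemma exists_int_coroot' (k : ι) (i : b.support) :
    ∃ n : ℤ, P.coroot' k (RootCh.fundWeight b i) = n := by
  rcases em (b.IsPos k) with hk | hk
  · obtain ⟨n, hn⟩ := exists_nat_root' (P := P.flip) b.flip ((flip_isPos b k).mpr hk) i
    exact ⟨n, hn.trans (Int.cast_natCast n).symm⟩
  · obtain ⟨n, hn⟩ := exists_nat_root' (P := P.flip) b.flip
      ((flip_isPos b (negIdx P k)).mpr ((isPos_negIdx b k).mpr hk)) i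
    refine ⟨-n, ?_⟩
    change P.coroot' (negIdx P k) (RootCh.fundWeight b i) = _ at hn
    rw [coroot'_negIdx, neg_eq_iff_eq_neg] at hn
    simpa using hn

end Base

end Groth.Agent.H84.RC
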