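import Groth.Agent.H84.RC.Facet

/-! Dual facets, correspondence of weights and coweights, spans and sums of roots. -/

noncomputable section

open Set Function Module
open scoped Classical
open Groth.Agent.Lib.RootDatum Groth.Agent.Lib.RootDatum.Basic

namespace Groth.Agent.H84.RC

variable {ι R M N : Type*} [Field R] [LinearOrder R] [IsStrictOrderedRing R]
  [AddCommGroup M] [Module R M] [AddCommGroup N] [Module R N] [Finite ι]
  {P : RootPairing ι R M N} [P.IsRootSystem] [P.IsCrystallographic] [P.IsReduced]
  (F : RootCh.Facet P)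

omit [P.IsCrystallographic] [P.IsReduced] in
lemma cosgnVec_polarization [Fintype ι] (ξ : M) :
    RootCh.cosgnVec P (P.PolarizationEquiv ξ) = RootCh.sgnVec P ξ := by
  funext i
  change SignType.sign (P.toLinearMap (P.root i) (P.PolarizationEquiv ξ)) =
    SignType.sign (P.coroot' i ξ)
  rw [RootPairing.polarizationEquiv_apply, P.toLinearMap_apply_apply_Polarization, sign_coroot']

/-- The facet of the dual root system with the same sign vector. -/
def dualFacet : RootCh.Facet P.flip where
  sgn := F.sgn
  exists_sgnVec_eq := by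
    haveI := Fintype.ofFinite ι
    obtain ⟨ξ, hξ⟩ := F.exists_sgnVec_eq
    exact ⟨P.PolarizationEquiv ξ, (cosgnVec_polarization ξ).trans hξ⟩

lemma exists_flip_eq (c : P.flip.Base) : ∃ b : P.Base, b.flip = c := ⟨c.flip, rfl⟩

lemma flip_mem_cham_iff {b : P.Base} : b.flip ∈ (dualFacet F).cham ↔ b ∈ F.cham := by
  rw [mem_cham_iff_simple, mem_cham_iff_simple]
  rfl

lemma dualCorners_eq {b : P.Base} (hb : b ∈ F.cham) :
    F.dualCorners = RootCh.fundCoweight b '' {i : b.support | F.sgn i = 1} :=
  corners_eq (P := P.flip) (dualFacet F) ((flip_mem_cham_iff F).mpr hb)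

lemma sgn_fundWeight_eq (b : P.Base) (i : b.support) :
    RootCh.sgnVec P (RootCh.fundWeight b i) = RootCh.cosgnVec P (RootCh.fundCoweight b i) := by
  have key : ∀ k, b.IsPos k → RootCh.sgnVec P (RootCh.fundWeight b i) k =
      RootCh.cosgnVec P (RootCh.fundCoweight b i) k := fun k hk => by
    have hnn : ∀ j ∈ b.support, 0 ≤ P.coroot' j (RootCh.fundWeight b i) := fun j hj => by
      rw [coroot'_fundWeight b i ⟨j, hj⟩]; split_ifs <;> simp
    have e : P.coroot' k (RootCh.fundWeight b i) = 0 ↔
        P.root' k (RootCh.fundCoweight b i) = 0 := by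
      rw [coroot'_eq_zero_iff b hnn hk]
      refine ⟨fun H => H i (by rw [RootCh.coroot'_fundWeight_self]; exact one_ne_zero), fun H j hj => ?_⟩
      rw [coroot'_fundWeight] at hj
      split_ifs at hj with h
      · rw [h]; exact H
      · exact absurd rfl hj
    change SignType.sign (P.coroot' k (RootCh.fundWeight b i)) =
      SignType.sign (P.root' k (RootCh.fundCoweight b i))
    rcases (coroot'_nonneg b hnn hk).lt_or_eq with h | h
    · rw [sign_pos h, sign_pos ((root'_nonneg b hk i).lt_of_ne' fun e' => h.ne' (e.mpr e'))]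
    · rw [← h, e.mp h.symm]
  funext k
  by_cases hk : b.IsPos k
  · exact key k hk
  · have := key _ ((isPos_negIdx b k).mpr hk)
    simp only [RootCh.sgnVec, RootCh.cosgnVec, coroot'_negIdx, root'_negIdx, Left.sign_neg] at this
    exact neg_injective this

lemma cosgn_of_corr {w : M} {x : N} (h : RootCh.Corr P w x) :
    RootCh.cosgnVec P x = RootCh.sgnVec P w := by
  obtain ⟨b, i, rfl, rfl⟩ := h
  exact (sgn_fundWeight_eq b i).symm

lemma corr_iff (b : P.Base) (i : b.support) (x : N) :
    RootCh.Corr P (RootCh.fundWeight b i) x ↔ x = RootCh.fundCoweight b i := by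
  refine ⟨fun h => ?_, fun h => ⟨b, i, rfl, h.symm⟩⟩
  have hs := cosgn_of_corr h
  obtain ⟨b', k, -, rfl⟩ := h
  rw [sgn_fundWeight_eq b i] at hs
  have hmem : RootCh.fundCoweight b' k ∈ RootCh.baseCorners (P := P.flip) b.flip := by
    refine ⟨⟨b'.flip, k, rfl⟩, fun j hj => ?_⟩
    change 0 ≤ P.root' j (RootCh.fundCoweight b' k)
    have e := congrFun hs j
    simp only [RootCh.cosgnVec, root'_fundCoweight b i ⟨j, hj⟩] at e
    by_contra hlt
    rw [sign_neg (not_le.mp hlt)] at e
    split_ifs at e <;> simp at e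
  rw [baseCorners_eq] at hmem
  obtain ⟨j, hj⟩ := hmem
  obtain ⟨j, hjs⟩ := j
  change RootCh.fundCoweight b ⟨j, hjs⟩ = _ at hj
  rw [← hj] at hs ⊢
  have e := congrFun hs i
  simp only [RootCh.cosgnVec, root'_fundCoweight] at e
  split_ifs at e with h
  · rw [h]
  · simp at e

include F in
lemma root'_coweight_eq_zero {w : M} (hw : w ∈ F.corners) {x : N} (hx : RootCh.Corr P w x)
    {l : ι} (hl : F.sgn l = 0) : P.root' l x = 0 := by
  have h := congrFun (cosgn_of_corr hx) l
  rcases hw.2 l with e | e <;> rw [e] at h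
  · exact sign_eq_zero_iff.mp h
  · exact sign_eq_zero_iff.mp (h.trans hl)

/-- The vectors killed by the coroots vanishing on a facet. -/
def killed (F : RootCh.Facet P) : Submodule R M :=
  ⨅ (l : ι) (_ : F.sgn l = 0), LinearMap.ker (P.coroot' l)

lemma mem_killed {F : RootCh.Facet P} {ξ : M} :
    ξ ∈ killed F ↔ ∀ l, F.sgn l = 0 → P.coroot' l ξ = 0 := by
  simp [killed, Submodule.mem_iInf]

lemma span_carrier_eq_killed : Submodule.span R F.carrier = killed F := by
  obtain ⟨ξ₀, hξ₀⟩ := exists_witness F
  obtain ⟨b, hb⟩ := cham_nonempty F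
  refine le_antisymm (Submodule.span_le.mpr fun ξ hξ => mem_killed.mpr fun l hl => ?_) fun ξ hξ => ?_
  · exact sign_eq_zero_iff.mp ((congrFun hξ l).trans hl)
  · rw [weight_eq_sum b ξ]
    refine Submodule.sum_mem _ fun i _ => ?_
    rcases sgn_simple F hb i.2 with e | e
    · rw [mem_killed.mp hξ i e, zero_smul]; exact Submodule.zero_mem _
    · refine Submodule.smul_mem _ _ ?_
      have hcl : RootCh.fundWeight b i ∈ F.closure :=
        ((corners_eq F hb).symm ▸ (⟨i, e, rfl⟩ : RootCh.fundWeight b i ∈
          RootCh.fundWeight b '' {j : b.support | F.sgn j = 1}) :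
            RootCh.fundWeight b i ∈ F.corners).2
      have h1 : ξ₀ + RootCh.fundWeight b i ∈ F.carrier := funext fun k => by
        change SignType.sign (P.coroot' k (ξ₀ + RootCh.fundWeight b i)) = F.sgn k
        rw [map_add]
        rcases (F.sgn k).trichotomy with a | a | a <;> rcases hcl k with c | c <;>
          simp only [RootCh.sgnVec, sign_eq_zero_iff, a] at c <;> rw [a]
        all_goals first
          | (rw [c, add_zero, hξ₀ k, a])
          | (have h0 := (hξ₀ k).trans a
             rw [sign_eq_neg_one_iff] at h0 c ⊢; linarith)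
          | (have h0 := (hξ₀ k).trans a
             rw [sign_eq_one_iff] at h0 c ⊢; linarith)
          | (have h0 := (hξ₀ k).trans a
             rw [sign_eq_zero_iff] at h0 c ⊢; linarith)
      simpa using Submodule.sub_mem _ (Submodule.subset_span h1) (Submodule.subset_span
        (show ξ₀ ∈ F.carrier from funext hξ₀))

lemma span_corners_eq_killed : Submodule.span R F.corners = killed F := by
  obtain ⟨b, hb⟩ := cham_nonempty F
  refine le_antisymm (Submodule.span_le.mpr fun w hw => mem_killed.mpr fun l hl => ?_) fun ξ hξ => ?_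
  · rcases hw.2 l with e | e
    · exact sign_eq_zero_iff.mp e
    · exact sign_eq_zero_iff.mp (e.trans hl)
  · rw [weight_eq_sum b ξ]
    refine Submodule.sum_mem _ fun i _ => ?_
    rcases sgn_simple F hb i.2 with e | e
    · rw [mem_killed.mp hξ i e, zero_smul]; exact Submodule.zero_mem _
    · refine Submodule.smul_mem _ _ (Submodule.subset_span ?_)
      rw [corners_eq F hb]
      exact ⟨i, e, rfl⟩

lemma mem_span_dualCarrier_iff {y : N} :
    y ∈ Submodule.span R F.dualCarrier ↔ ∀ l, F.sgn l = 0 → P.root' l y = 0 :=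
  (SetLike.ext_iff.mp (span_carrier_eq_killed (P := P.flip) (dualFacet F)) y).trans mem_killed

/-- A sum of roots permuted by a reflection is killed by the coroot. -/
lemma coroot'_sum_eq_zero {T : Finset ι} {l : ι} (h : ∀ k ∈ T, P.reflectionPerm l k ∈ T) :
    P.coroot' l (∑ k ∈ T, P.root k) = 0 := by
  have h1 : P.reflection l (∑ k ∈ T, P.root k) = ∑ k ∈ T, P.root k := by
    rw [map_sum]
    exact Finset.sum_nbij' (P.reflectionPerm l) (P.reflectionPerm l) h h
      (fun k _ => P.reflectionPerm_self l k) (fun k _ => P.reflectionPerm_self l k)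
      (fun k _ => (P.root_reflectionPerm l k).symm)
  rw [P.reflection_apply, sub_eq_self, smul_eq_zero] at h1
  exact h1.resolve_right (P.ne_zero l)

omit [LinearOrder R] [IsStrictOrderedRing R] [Finite ι] [P.IsRootSystem] [P.IsCrystallographic] [P.IsReduced] in
lemma root'_reflectionPerm (l k : ι) (x : N) :
    P.root' (P.reflectionPerm l k) x = P.root' k x - P.pairing k l * P.root' l x := by
  simp [RootPairing.root', RootPairing.reflection_apply_root]

lemma sgn_reflectionPerm {l : ι} (hl : F.sgn l = 0) (k : ι) :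
    F.sgn (P.reflectionPerm l k) = F.sgn k := by
  obtain ⟨x, hx⟩ := exists_witness (P := P.flip) (dualFacet F)
  have hx0 : P.root' l x = 0 := sign_eq_zero_iff.mp ((hx l).trans hl)
  rw [show F.sgn (P.reflectionPerm l k) = SignType.sign (P.root' (P.reflectionPerm l k) x) from
    (hx _).symm, root'_reflectionPerm, hx0, mul_zero, sub_zero]
  exact hx k

/-- The sum of the roots positive on a facet. -/
def rho (F : RootCh.Facet P) : M := ∑ k ∈ (Set.toFinite F.posPart).toFinset, P.root k

lemma sum_parab_eq : ∑ k ∈ (Set.toFinite F.parab).toFinset, P.root k = rho F := by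
  have hd : Disjoint (Set.toFinite F.posPart).toFinset (Set.toFinite F.leviPart).toFinset :=
    Finset.disjoint_left.mpr fun k h h' => by
      simp only [Set.Finite.mem_toFinset, RootCh.Facet.posPart, RootCh.Facet.leviPart,
        mem_ofPred_eq] at h h'
      rw [h] at h'; exact absurd h' (by decide)
  have he : (Set.toFinite F.parab).toFinset =
      (Set.toFinite F.posPart).toFinset ∪ (Set.toFinite F.leviPart).toFinset := by
    ext k
    simp only [Set.Finite.mem_toFinset, Finset.mem_union, RootCh.Facet.parab,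
      RootCh.Facet.posPart, RootCh.Facet.leviPart, mem_ofPred_eq]
    rcases (F.sgn k).trichotomy with e | e | e <;> simp [e]
  rw [he, Finset.sum_union hd]
  have : ∑ k ∈ (Set.toFinite F.leviPart).toFinset, P.root k = 0 := by
    refine Finset.sum_involution (fun k _ => negIdx P k) ?_ ?_ ?_ ?_
    · intro k _; simp
    · intro k _ _; exact negIdx_ne P k
    · intro k hk
      simp only [Set.Finite.mem_toFinset, RootCh.Facet.leviPart, mem_ofPred_eq] at hk ⊢
      rw [sgn_negIdx, hk]; rfl
    · intro k _; exact negIdx_negIdx P k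
  rw [this, add_zero]; rfl

lemma rho_mem_killed : rho F ∈ killed F :=
  mem_killed.mpr fun l hl => coroot'_sum_eq_zero fun k hk => by
    simp only [Set.Finite.mem_toFinset, RootCh.Facet.posPart, mem_ofPred_eq] at hk ⊢
    rw [sgn_reflectionPerm F hl, hk]

lemma coroot'_rho_pos {j : ι} (hj : F.sgn j = 1) : 0 < P.coroot' j (rho F) := by
  obtain ⟨x, hx⟩ := exists_witness (P := P.flip) (dualFacet F)
  have hx' : ∀ k, SignType.sign (P.root' k x) = F.sgn k := hx
  unfold rho
  rw [map_sum]
  simp only [RootPairing.root_coroot'_eq_pairing]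
  have hneg : ∀ k, P.pairing (P.reflectionPerm j k) j = -P.pairing k j := fun k => by
    rw [← P.pairing_reflectionPerm, P.pairing_reflectionPerm_self_right]
  rw [← Finset.sum_filter_add_sum_filter_not (Set.toFinite F.posPart).toFinset
    (fun k => F.sgn (P.reflectionPerm j k) = 1)]
  have h0 : ∑ k ∈ (Set.toFinite F.posPart).toFinset.filter
      (fun k => F.sgn (P.reflectionPerm j k) = 1), P.pairing k j = 0 := by
    refine Finset.sum_involution (fun k _ => P.reflectionPerm j k) ?_ ?_ ?_ ?_
    · intro k _
      rw [hneg]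
      exact add_neg_cancel _
    · intro k _ hne e
      exact hne (by
        have := congrArg (fun i => P.pairing i j) e
        simp only [hneg] at this
        linarith)
    · intro k hk
      simp only [Finset.mem_filter, Set.Finite.mem_toFinset, RootCh.Facet.posPart, mem_ofPred_eq,
        P.reflectionPerm_self] at hk ⊢
      exact ⟨hk.2, hk.1⟩
    · intro k _; exact P.reflectionPerm_self j k
  rw [h0, zero_add]
  refine Finset.sum_pos (fun k hk => ?_) ⟨j, ?_⟩
  · simp only [Finset.mem_filter, Set.Finite.mem_toFinset, RootCh.Facet.posPart, mem_ofPred_eq] at hk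
    have h1 : 0 < P.root' k x := sign_eq_one_iff.mp ((hx' k).trans hk.1)
    have h2 : 0 < P.root' j x := sign_eq_one_iff.mp ((hx' j).trans hj)
    have h3 : ¬ 0 < P.root' (P.reflectionPerm j k) x := fun h => hk.2 ((hx' _).symm.trans (sign_pos h))
    rw [root'_reflectionPerm, not_lt] at h3
    exact (mul_pos_iff_of_pos_right h2).mp (by linarith)
  · simp only [Finset.mem_filter, Set.Finite.mem_toFinset, RootCh.Facet.posPart, mem_ofPred_eq]
    refine ⟨hj, ?_⟩
    change ¬ F.sgn (negIdx P j) = 1
    rw [sgn_negIdx, hj]; decide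

lemma sgnVec_rho : RootCh.sgnVec P (rho F) = F.sgn := by
  funext k
  change SignType.sign (P.coroot' k (rho F)) = F.sgn k
  rcases (F.sgn k).trichotomy with e | e | e
  · have := coroot'_rho_pos F (j := negIdx P k) (by rw [sgn_negIdx, e]; rfl)
    rw [coroot'_negIdx, neg_pos] at this
    rw [e, sign_neg this]
  · rw [e, mem_killed.mp (rho_mem_killed F) k e, sign_zero]
  · rw [e, sign_pos (coroot'_rho_pos F e)]

lemma mem_parab_iff {k : ι} : k ∈ F.parab ↔ F.sgn k = 0 ∨ F.sgn k = 1 := by
  change F.sgn k ≠ -1 ↔ _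
  rcases (F.sgn k).trichotomy with e | e | e <;> simp [e]

lemma le_iff_parab_subset (G : RootCh.Facet P) : F ≤ G ↔ F.parab ⊆ G.parab := by
  constructor
  · intro h k hk
    change G.sgn k ≠ -1
    rcases h k with e | e
    · rw [e]; decide
    · rw [e]; exact hk
  · intro h k
    have h1 : F.sgn k ≠ -1 → G.sgn k ≠ -1 := fun hk => h hk
    have h2 : F.sgn (negIdx P k) ≠ -1 → G.sgn (negIdx P k) ≠ -1 := fun hk => h hk
    rw [sgn_negIdx, sgn_negIdx] at h2
    rcases (F.sgn k).trichotomy with a | a | a <;> rcases (G.sgn k).trichotomy with c | c | c <;>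
      simp_all

lemma parab_injective : Injective (RootCh.Facet.parab (P := P)) := fun F G h =>
  le_antisymm ((le_iff_parab_subset F G).mpr h.le) ((le_iff_parab_subset G F).mpr h.ge)

lemma isParabolicSubset_parab : RootCh.IsParabolicSubset P F.parab := by
  obtain ⟨x, hx⟩ := exists_witness (P := P.flip) (dualFacet F)
  have hx' : ∀ k, k ∈ F.parab ↔ 0 ≤ P.root' k x := fun k => by
    change F.sgn k ≠ -1 ↔ _
    rw [show F.sgn k = SignType.sign (P.root' k x) from (hx k).symm, ne_eq, sign_eq_neg_one_iff,
      not_lt]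
  refine ⟨fun i j k hi hj h => ?_, fun i => ?_⟩
  · rw [hx'] at hi hj ⊢
    simp only [RootPairing.root'] at hi hj ⊢
    rw [h, map_add, LinearMap.add_apply]
    exact add_nonneg hi hj
  · rw [hx', hx']
    change _ ∨ 0 ≤ P.root' (negIdx P i) x
    rw [root'_negIdx, neg_nonneg]
    exact le_total 0 _

lemma exists_parab_eq {S : Set ι} (hS : RootCh.IsParabolicSubset P S) :
    ∃ F : RootCh.Facet P, F.parab = S := by
  obtain ⟨b₀⟩ := P.nonempty_base
  have hcl : RootD.IsClosedSub P S := fun i j k hi hj h => hS.1 i j k hi hj h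
  obtain ⟨g, -, hsub⟩ := Weyl.exists_smul_posSys_subset P (isPosSys b₀) hS.2 hcl
  obtain ⟨b, hb⟩ := exists_base (Weyl.isPosSys_smul P g (isPosSys b₀))
  have hpos : ∀ k, b.IsPos k → k ∈ S := fun k hk => hsub ((hb k).mp hk)
  have heq := Sub.closed_superset_eq P (BaseBridge.isSimpleSys b) hcl
    (fun k hk => hpos k ((BaseBridge.isPos_iff_mem b k).mpr hk))
  let J : Finset b.support := Finset.univ.filter fun i : b.support => negIdx P (i : ι) ∉ S
  refine ⟨facetOf b J, Set.ext fun k => ?_⟩
  by_cases hk : b.IsPos k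
  · exact iff_of_true (sgn_ne_neg_one _ (mem_cham_facetOf b J) hk) (hpos k hk)
  have hn : b.IsPos (negIdx P k) := (isPos_negIdx b k).mpr hk
  have h1 : k ∈ (facetOf b J).parab ↔ (facetOf b J).sgn (negIdx P k) = 0 := by
    change (facetOf b J).sgn k ≠ -1 ↔ _
    have := sgn_ne_neg_one _ (mem_cham_facetOf b J) hn
    rw [sgn_negIdx] at this ⊢
    rcases ((facetOf b J).sgn k).trichotomy with e | e | e <;> rw [e] at this ⊢ <;>
      first | decide | exact absurd rfl this | simp
  rw [h1, sgn_eq_zero_iff_coef _ (mem_cham_facetOf b J) hn]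
  constructor
  · intro H
    have hmem : -P.root k ∈ RootD.natSpan P {i | i ∈ (b.support : Set ι) ∧ negIdx P i ∈ S} := by
      rw [← root_negIdx, root_eq_sum b (P.root (negIdx P k))]
      refine sum_mem fun i _ => ?_
      obtain ⟨n, hn'⟩ := exists_nat_root' b hn i
      by_cases hi : i ∈ J
      · rw [show P.toLinearMap (P.root (negIdx P k)) (RootCh.fundCoweight b i) = 0 from
          H i (by rw [sgn_facetOf_simple, if_pos hi]), zero_smul]
        exact zero_mem _
      · rw [show P.toLinearMap (P.root (negIdx P k)) (RootCh.fundCoweight b i) = (n : R) from hn',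
          Nat.cast_smul_eq_nsmul]
        refine nsmul_mem (PosSys.root_mem_natSpan P (S := {l | l ∈ (b.support : Set ι) ∧ negIdx P l ∈ S}) ⟨i.2, ?_⟩) n
        by_contra hc
        exact hi (Finset.mem_filter.mpr ⟨Finset.mem_univ _, hc⟩)
    rw [heq]; exact Or.inr hmem
  · intro hkS i hi
    rw [heq] at hkS
    rcases hkS with h | h
    · exact absurd ((BaseBridge.isPos_iff_mem b k).mpr h) hk
    · have hle : RootD.natSpan P {l | l ∈ (b.support : Set ι) ∧ negIdx P l ∈ S} ≤
          AddMonoidHom.mker (P.toLinearMap.flip (RootCh.fundCoweight b i)).toAddMonoidHom :=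
        PosSys.natSpan_le P fun l hl => by
          change P.root' l (RootCh.fundCoweight b i) = 0
          refine RootCh.root'_fundCoweight_of_ne b i ⟨l, hl.1⟩ fun e => ?_
          subst e
          rw [sgn_facetOf_simple] at hi
          split_ifs at hi with hJ
          exact (Finset.mem_filter.mp hJ).2 hl.2
      have := hle h
      rw [← root_negIdx] at this
      exact this

/-- The corners of a facet are the weights whose coweight is non-negative on the parabolic set. -/
lemma corners_eq_setOf :
    F.corners = {m : M | m ∈ RootCh.fundWeights P ∧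
      ∀ y : N, RootCh.Corr P m y → ∀ i ∈ F.parab, 0 ≤ P.root' i y} := by
  ext m
  constructor
  · rintro ⟨hm, hcl⟩
    refine ⟨hm, fun y hy i hi => ?_⟩
    have e := congrFun (cosgn_of_corr hy) i
    rcases hcl i with c | c <;> rw [c] at e
    · exact (sign_eq_zero_iff.mp e).ge
    · by_contra hlt
      exact hi (e.symm.trans (sign_neg (not_le.mp hlt)))
  · rintro ⟨hm, H⟩
    refine ⟨hm, fun k => ?_⟩
    obtain ⟨c, j, rfl⟩ := hm
    have hy : RootCh.Corr P (RootCh.fundWeight c j) (RootCh.fundCoweight c j) := ⟨c, j, rfl, rfl⟩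
    rw [sgn_fundWeight_eq]
    have h1 : ∀ i, i ∈ F.parab → SignType.sign (P.root' i (RootCh.fundCoweight c j)) ≠ -1 :=
      fun i hi e => not_lt.mpr (H _ hy i hi) (sign_eq_neg_one_iff.mp e)
    have a := h1 k
    have b := h1 (negIdx P k)
    rw [root'_negIdx, Left.sign_neg] at b
    simp only [RootCh.Facet.parab, mem_ofPred_eq, sgn_negIdx] at a b
    change SignType.sign (P.root' k (RootCh.fundCoweight c j)) = 0 ∨
      SignType.sign (P.root' k (RootCh.fundCoweight c j)) = F.sgn k
    rcases (F.sgn k).trichotomy with e | e | e <;>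
      rcases (SignType.sign (P.root' k (RootCh.fundCoweight c j))).trichotomy with f | f | f <;>
      simp_all

end Groth.Agent.H84.RC
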