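import Mathlib.Analysis.Convex.Combination
import Mathlib.Algebra.BigOperators.Field
import Mathlib.LinearAlgebra.Dual.Lemmas

/-! Farkas' lemma for finitely many vectors over a linearly ordered field (Bartl's proof). -/

namespace Groth.Agent.H84.RC

variable {R V : Type*} [Field R] [LinearOrder R] [IsStrictOrderedRing R]
  [AddCommGroup V] [Module R V]

theorem farkas {α : Type*} (s : Finset α) : ∀ (a : α → V) (b : V),
    (∃ c : α → R, (∀ i ∈ s, 0 ≤ c i) ∧ b = ∑ i ∈ s, c i • a i) ∨
      ∃ f : Module.Dual R V, (∀ i ∈ s, 0 ≤ f (a i)) ∧ f b < 0 := by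
  classical
  induction s using Finset.induction_on with
  | empty =>
    intro a b
    by_cases hb : b = 0
    · exact Or.inl ⟨0, by simp, by simp [hb]⟩
    · obtain ⟨f, hf⟩ : ∃ f : Module.Dual R V, f b ≠ 0 := by
        by_contra! h
        exact hb ((Module.forall_dual_apply_eq_zero_iff R b).mp h)
      rcases lt_or_gt_of_ne hf with h | h
      · exact Or.inr ⟨f, by simp, h⟩
      · exact Or.inr ⟨-f, by simp, by simpa⟩
  | insert n s hn ih =>
    intro a b
    rcases ih a b with ⟨c, hc, hb⟩ | ⟨f, hf, hfb⟩
    · refine Or.inl ⟨Function.update c n 0, fun i hi => ?_, ?_⟩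
      · rcases eq_or_ne i n with rfl | h
        · simp
        · rw [Function.update_of_ne h]
          exact hc i ((Finset.mem_insert.mp hi).resolve_left h)
      · rw [Finset.sum_insert hn, Function.update_self, zero_smul, zero_add, hb]
        exact Finset.sum_congr rfl fun i hi => by
          rw [Function.update_of_ne (ne_of_mem_of_not_mem hi hn)]
    · by_cases hfn : 0 ≤ f (a n)
      · refine Or.inr ⟨f, fun i hi => ?_, hfb⟩
        rcases Finset.mem_insert.mp hi with rfl | h
        · exact hfn
        · exact hf i h
      push Not at hfn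
      let π : V →ₗ[R] V := LinearMap.id - (f (a n))⁻¹ • f.smulRight (a n)
      have hπ : ∀ v, π v = v - (f v / f (a n)) • a n := fun v => by
        simp [π, smul_smul, div_eq_inv_mul]
      rcases ih (π ∘ a) (π b) with ⟨c, hc, hb⟩ | ⟨g, hg, hgb⟩
      · refine Or.inl ⟨Function.update c n ((f b - ∑ i ∈ s, c i * f (a i)) / f (a n)),
          fun i hi => ?_, ?_⟩
        · rcases eq_or_ne i n with rfl | h
          · rw [Function.update_self]
            refine div_nonneg_of_nonpos ?_ hfn.le
            have : 0 ≤ ∑ j ∈ s, c j * f (a j) :=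
              Finset.sum_nonneg fun j hj => mul_nonneg (hc j hj) (hf j hj)
            linarith
          · rw [Function.update_of_ne h]
            exact hc i ((Finset.mem_insert.mp hi).resolve_left h)
        · rw [Finset.sum_insert hn, Function.update_self]
          have h2 : ∑ i ∈ s, Function.update c n
              ((f b - ∑ i ∈ s, c i * f (a i)) / f (a n)) i • a i = ∑ i ∈ s, c i • a i :=
            Finset.sum_congr rfl fun i hi => by
              rw [Function.update_of_ne (ne_of_mem_of_not_mem hi hn)]
          rw [h2]
          simp only [Function.comp_apply, hπ, smul_sub, Finset.sum_sub_distrib, smul_smul] at hb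
          rw [← Finset.sum_smul] at hb
          rw [sub_div, Finset.sum_div, sub_smul]
          simp only [mul_div_assoc] at hb ⊢
          rw [sub_add_eq_add_sub, add_sub_assoc, ← hb]
          abel
      · refine Or.inr ⟨g ∘ₗ π, fun i hi => ?_, hgb⟩
        rcases Finset.mem_insert.mp hi with rfl | h
        · change 0 ≤ g (π (a i))
          rw [hπ, div_self hfn.ne, one_smul, sub_self, map_zero]
        · exact hg i h

/-- A point outside the convex hull of a finite set is strictly separated from it by a linear
form. -/
theorem exists_dual_lt_of_notMem_convexHull {s : Set V} (hs : s.Finite) {x : V}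
    (hx : x ∉ convexHull R s) : ∃ φ : Module.Dual R V, ∀ p ∈ s, φ x < φ p := by
  rcases farkas (R := R) hs.toFinset (fun p => (p, (1 : R))) (x, (1 : R)) with ⟨c, hc, hb⟩ | ⟨f, hf, hfb⟩
  · refine absurd ?_ hx
    have h1 : x = ∑ p ∈ hs.toFinset, c p • p := by simpa [Prod.fst_sum] using congrArg Prod.fst hb
    have h2 : (1 : R) = ∑ p ∈ hs.toFinset, c p := by simpa [Prod.snd_sum] using congrArg Prod.snd hb
    rw [h1]
    exact (convex_convexHull R s).sum_mem hc h2.symm
      fun p hp => subset_convexHull R s (hs.mem_toFinset.mp hp)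
  · refine ⟨f ∘ₗ LinearMap.inl R V R, fun p hp => ?_⟩
    have hp' := hf p (hs.mem_toFinset.mpr hp)
    have e : ∀ v : V, f (v, (1 : R)) = f (v, 0) + f (0, 1) := fun v => by rw [← map_add]; simp
    rw [e] at hp' hfb
    simp only [LinearMap.comp_apply, LinearMap.inl_apply]
    linarith

end Groth.Agent.H84.RC
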