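import Groth.Prelude.Def_RootCh2
import Groth.Agent.H84.RC.Dual
import Groth.Agent.H84.RC.Farkas

/-! Complementary convex solids. -/

noncomputable section

open Set Function Module
open scoped Classical
open Groth.Agent.Lib.RootDatum Groth.Agent.Lib.RootDatum.Basic

namespace Groth.Agent.H84.RC

variable {ι R M N : Type*} [Field R] [LinearOrder R] [IsStrictOrderedRing R]
  [AddCommGroup M] [Module R M] [AddCommGroup N] [Module R N] [Finite ι]
  {P : RootPairing ι R M N} [P.IsRootSystem] [P.IsCrystallographic] [P.IsReduced]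

/-- The base on the other side of a wall. -/
lemma exists_wall (b : P.Base) {i : ι} (hi : i ∈ b.support) :
    ∃ b' : P.Base, (∀ k, b'.IsPos k ↔ (b.IsPos k ∧ k ≠ i) ∨ k = negIdx P i) ∧
      ∀ j : b.support, (j : ι) ≠ i → RootCh.fundWeight b j ∈ RootCh.baseCorners b' := by
  let J : Finset b.support := Finset.univ.erase ⟨i, hi⟩
  let F := facetOf b J
  obtain ⟨b₁⟩ := P.nonempty_base
  obtain ⟨b₀, hb₀⟩ := exists_base_refine (-(P.toLinearMap.flip (RootCh.fundCoweight b ⟨i, hi⟩))) b₁
  have hi0 : ¬ b₀.IsPos i := by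
    rw [hb₀]
    simp [show P.toLinearMap (P.root i) (RootCh.fundCoweight b ⟨i, hi⟩) = 1 from
      RootCh.root'_fundCoweight_self b ⟨i, hi⟩]
  obtain ⟨b', hmem, hb'⟩ := exists_cham_refine F b₀
  have hFi : F.sgn i = 0 := by
    rw [show F.sgn i = _ from sgn_facetOf_simple b J ⟨i, hi⟩, if_neg (by simp [J])]
  have hF0 : ∀ k, b.IsPos k → F.sgn k = 0 → k = i := by
    intro k hk h0
    have hz : ∀ j : b.support, j ≠ ⟨i, hi⟩ →
        P.toLinearMap (P.root k) (RootCh.fundCoweight b j) = 0 := fun j hj =>
      (sgn_eq_zero_iff_coef F (mem_cham_facetOf b J) hk).mp h0 j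
        (by rw [sgn_facetOf_simple, if_pos (by simp [J, hj])])
    have e := root_eq_sum b (P.root k)
    rw [Finset.sum_eq_single ⟨i, hi⟩ (fun j _ hj => by rw [hz j hj, zero_smul]) (by simp)] at e
    rcases eq_or_eq_negIdx e with h | h
    · exact h
    · subst h
      exact absurd (RootPairing.Base.isPos_of_mem_support hi) ((isPos_negIdx b i).mp hk)
  have key : ∀ k, b.IsPos k → k ≠ i → b'.IsPos k := fun k hk hne => by
    refine (hb' k).mpr (Or.inl ?_)
    have h1 := sgn_ne_neg_one F (mem_cham_facetOf b J) hk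
    rcases (F.sgn k).trichotomy with e | e | e
    · exact absurd e h1
    · exact absurd (hF0 k hk e) hne
    · exact e
  have hni : ¬ b'.IsPos i := by
    rw [hb', hFi]; simp [hi0]
  refine ⟨b', fun k => ?_, fun j hj => ?_⟩
  · constructor
    · intro hk
      by_cases hbk : b.IsPos k
      · exact Or.inl ⟨hbk, fun e => hni (e ▸ hk)⟩
      · by_cases e : negIdx P k = i
        · exact Or.inr (by rw [← e, negIdx_negIdx])
        · exact absurd hk ((isPos_negIdx b' k).mp (key _ ((isPos_negIdx b k).mpr hbk) e))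
    · rintro (⟨h1, h2⟩ | rfl)
      · exact key k h1 h2
      · exact (isPos_negIdx b' i).mpr hni
  · refine corners_subset_baseCorners F hmem ?_
    rw [corners_facetOf]
    exact ⟨j, Finset.mem_coe.mpr (Finset.mem_erase.mpr
      ⟨fun h => hj (congrArg Subtype.val h), Finset.mem_univ _⟩), rfl⟩

variable {d : P.Base → N} (hd : RootCh.IsCCS d)
include hd

/-- Crossing walls away from `b` increases the pairing with a weight dominant on the separating
roots. -/
theorem le_pairing (b c : P.Base) {ξ : M}
    (hξ : ∀ k, b.IsPos k → ¬ c.IsPos k → 0 ≤ P.coroot' k ξ) :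
    P.toLinearMap ξ (d b) ≤ P.toLinearMap ξ (d c) := by
  haveI := Fintype.ofFinite ι
  generalize hn : (Finset.univ.filter fun k => b.IsPos k ∧ ¬ c.IsPos k).card = n
  induction n using Nat.strong_induction_on generalizing b with
  | h n ih =>
    by_cases hsimp : ∀ i ∈ b.support, c.IsPos i
    · have hbc : b = c := base_ext b c fun k => by
        have h1 : ∀ l, b.IsPos l → c.IsPos l := fun l hl =>
          hl.induction_on_add hsimp (fun i j m h hi hj => hi.add (hsimp j hj) h)
        refine ⟨h1 k, fun hk => ?_⟩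
        by_contra hbk
        exact (isPos_negIdx c k).mp (h1 _ ((isPos_negIdx b k).mpr hbk)) hk
      rw [hbc]
    · push Not at hsimp
      obtain ⟨i, hi, hic⟩ := hsimp
      obtain ⟨b', hb', hcor⟩ := exists_wall b hi
      have hip := RootPairing.Base.isPos_of_mem_support hi
      have hsub : (Finset.univ.filter fun k => b'.IsPos k ∧ ¬ c.IsPos k) =
          (Finset.univ.filter fun k => b.IsPos k ∧ ¬ c.IsPos k).erase i := by
        ext k
        simp only [Finset.mem_filter, Finset.mem_univ, true_and, Finset.mem_erase, hb']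
        constructor
        · rintro ⟨⟨h1, h2⟩ | rfl, h3⟩
          · exact ⟨h2, h1, h3⟩
          · exact absurd ((isPos_negIdx c i).mpr hic) h3
        · rintro ⟨h1, h2, h3⟩
          exact ⟨Or.inl ⟨h2, h1⟩, h3⟩
      have hlt : (Finset.univ.filter fun k => b'.IsPos k ∧ ¬ c.IsPos k).card < n := by
        rw [hsub, ← hn]
        exact Finset.card_erase_lt_of_mem (by simp [hip, hic])
      refine le_trans ?_ (ih _ hlt b' (fun k hk hck => ?_) rfl)
      · -- one step across the wall
        have hne : ¬ RootCh.fundWeight b ⟨i, hi⟩ ∈ RootCh.baseCorners b' := fun h => by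
          have := coroot'_nonneg b' h.2 ((hb' _).mpr (Or.inr rfl))
          rw [coroot'_negIdx, RootCh.coroot'_fundWeight_self b ⟨i, hi⟩] at this
          linarith
        have hinter : RootCh.baseCorners b ∩ RootCh.baseCorners b' =
            RootCh.fundWeight b '' ((Finset.univ.erase (⟨i, hi⟩ : b.support) : Finset b.support) :
              Set b.support) := by
          ext w
          rw [baseCorners_eq b]
          constructor
          · rintro ⟨⟨j, rfl⟩, hw⟩
            exact ⟨j, Finset.mem_coe.mpr (Finset.mem_erase.mpr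
              ⟨fun e => hne (e ▸ hw), Finset.mem_univ _⟩), rfl⟩
          · rintro ⟨j, hj, rfl⟩
            exact ⟨⟨j, rfl⟩, hcor j fun e => Finset.ne_of_mem_erase (Finset.mem_coe.mp hj) (Subtype.ext e)⟩
        have hcard : (RootCh.baseCorners b ∩ RootCh.baseCorners b').ncard + 1 = b.support.card := by
          rw [hinter, Set.ncard_image_of_injective _ (fundWeight_injective b), Set.ncard_coe_finset,
            Finset.card_erase_add_one (Finset.mem_univ _), Finset.card_univ, Fintype.card_coe]
        have hwall := hd.wall_le b b' i hcard fun j => by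
          rw [hb']
          constructor
          · rintro ⟨h1, h2⟩
            by_contra e
            exact h2 (Or.inl ⟨h1, e⟩)
          · rintro rfl
            refine ⟨hip, fun h => ?_⟩
            rcases h with ⟨-, h⟩ | h
            · exact h rfl
            · exact negIdx_ne P j h.symm
        have e := coroot_eq_sum b (d b' - d b)
        rw [Finset.sum_eq_single ⟨i, hi⟩ (fun j _ hj => ?_) (by simp)] at e
        swap
        · rw [map_sub, hd.corner_eq b b' _ (by rw [baseCorners_eq]; exact ⟨j, rfl⟩)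
            (hcor j fun h => hj (Subtype.ext h)), sub_self, zero_smul]
        have h2 : 0 ≤ P.toLinearMap (RootCh.fundWeight b ⟨i, hi⟩) (d b' - d b) := by
          have h3 : 0 ≤ P.toLinearMap (P.root i) (d b' - d b) := by
            rw [map_sub, sub_nonneg]; exact hwall
          rw [e, map_smul, RootPairing.root_coroot_two, smul_eq_mul] at h3
          linarith
        rw [← sub_nonneg, ← map_sub, e, map_smul, smul_eq_mul]
        exact mul_nonneg h2 (hξ i hip hic)
      · rcases (hb' k).mp hk with ⟨h, -⟩ | rfl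
        · exact hξ k h hck
        · exact absurd ((isPos_negIdx c i).mpr hic) hck

/-- A corner of a chamber pairs least with the value at that chamber. -/
theorem corner_le {b : P.Base} {w : M} (hw : w ∈ RootCh.baseCorners b) (c : P.Base) :
    P.toLinearMap w (d b) ≤ P.toLinearMap w (d c) :=
  le_pairing hd b c fun _ hk _ => coroot'_nonneg b hw.2 hk

/-- A weight in the span of a facet pairs equally with the values at the adjacent chambers. -/
theorem pairing_eq (F : RootCh.Facet P) {b c : P.Base} (hb : b ∈ F.cham) (hc : c ∈ F.cham) {η : M}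
    (hη : η ∈ killed F) : P.toLinearMap η (d b) = P.toLinearMap η (d c) := by
  rw [← span_corners_eq_killed] at hη
  refine Submodule.span_induction (fun w hw => ?_) ?_ (fun x y _ _ hx hy => ?_)
    (fun r x _ hx => ?_) hη
  · exact hd.corner_eq b c w (corners_subset_baseCorners F hb hw) (corners_subset_baseCorners F hc hw)
  · simp
  · simp only [map_add, LinearMap.add_apply, hx, hy]
  · simp only [map_smul, LinearMap.smul_apply, hx]

theorem deg_eq (F : RootCh.Facet P) (b : P.Base) :
    F.deg d b = P.toLinearMap (rho F) (d b) := by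
  rw [← sum_parab_eq, map_sum, LinearMap.sum_apply]; rfl

omit hd in
lemma killed_expansion (F : RootCh.Facet P) {b : P.Base} (hb : b ∈ F.cham) {η : M} (hη : η ∈ killed F)
    (x : N) : P.toLinearMap η x = ∑ i ∈ Finset.univ.filter (fun i : b.support => F.sgn i = 1),
      P.coroot' i η * P.toLinearMap (RootCh.fundWeight b i) x := by
  conv_lhs => rw [weight_eq_sum b η]
  rw [map_sum, LinearMap.sum_apply]
  simp only [map_smul, LinearMap.smul_apply, smul_eq_mul]
  refine (Finset.sum_subset (Finset.filter_subset _ _) fun i _ hi => ?_).symm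
  have : F.sgn i = 0 := (sgn_simple F hb i.2).resolve_right fun e => hi (by simp [e])
  rw [mem_killed.mp hη i this, zero_mul]

omit hd in
lemma le_of_mem_hull {s : Set N} {x : N} (hx : x ∈ convexHull R s) {φ : Dual R N} {r : R}
    (h : ∀ p ∈ s, r ≤ φ p) : r ≤ φ x :=
  convexHull_min h (convex_halfSpace_ge φ.isLinear r) hx

theorem dualSolid_subset (F : RootCh.Facet P) {x : N} (hx : x ∈ RootCh.dualSolid d F) {w : M}
    {b : P.Base} (hw : w ∈ RootCh.baseCorners b) : P.toLinearMap w (d b) ≤ P.toLinearMap w x :=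
  le_of_mem_hull hx fun _ ⟨c, _, hc⟩ => hc ▸ corner_le hd hw c

theorem pairing_dualSolid (F : RootCh.Facet P) {x : N} (hx : x ∈ RootCh.dualSolid d F) {η : M}
    (hη : η ∈ killed F) {b : P.Base} (hb : b ∈ F.cham) :
    P.toLinearMap η x = P.toLinearMap η (d b) := by
  refine le_antisymm ?_ (le_of_mem_hull hx fun _ ⟨c, hc, e⟩ => e ▸ (pairing_eq hd F hb hc hη).le)
  have := le_of_mem_hull (φ := -P.toLinearMap η) (r := -P.toLinearMap η (d b)) hx
    fun _ ⟨c, hc, e⟩ => e ▸ (by simp [pairing_eq hd F hb hc hη])
  simpa using this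

omit hd in
/-- A chamber adjacent to the facet on which a given weight is dominant along the facet. -/
lemma exists_cham_dominant (F : RootCh.Facet P) (ξ : M) :
    ∃ c ∈ F.cham, ∀ i ∈ c.support, F.sgn i = 0 → 0 ≤ P.coroot' i ξ := by
  haveI := Fintype.ofFinite ι
  obtain ⟨b₀⟩ := P.nonempty_base
  obtain ⟨b₁, hb₁⟩ := exists_base_refine (P.RootForm ξ) b₀
  obtain ⟨c, hc, hc'⟩ := exists_cham_refine F b₁
  refine ⟨c, hc, fun i hi h0 => ?_⟩
  have := ((hc' i).mp (RootPairing.Base.isPos_of_mem_support hi)).resolve_left (by rw [h0]; decide)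
  rw [← sign_nonneg_iff, sign_coroot', sign_nonneg_iff]
  rcases (hb₁ i).mp this.2 with h | h
  · exact h.le
  · exact h.1.ge

theorem mem_dualSolid_of_forall (F : RootCh.Facet P) {x : N}
    (h1 : ∀ c ∈ F.cham, ∀ i : c.support, F.sgn i = 1 →
      P.toLinearMap (RootCh.fundWeight c i) x = P.toLinearMap (RootCh.fundWeight c i) (d c))
    (h2 : ∀ c ∈ F.cham, ∀ i : c.support, F.sgn i = 0 →
      P.toLinearMap (RootCh.fundWeight c i) (d c) ≤ P.toLinearMap (RootCh.fundWeight c i) x) :
    x ∈ RootCh.dualSolid d F := by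
  by_contra hx
  obtain ⟨φ, hφ⟩ := exists_dual_lt_of_notMem_convexHull ((Set.toFinite F.cham).image d) hx
  obtain ⟨ξ, hξ⟩ := P.toPerfPair.surjective φ
  obtain ⟨c, hc, hdom⟩ := exists_cham_dominant F ξ
  have := hφ (d c) ⟨c, hc, rfl⟩
  rw [← hξ] at this
  change P.toLinearMap ξ x < P.toLinearMap ξ (d c) at this
  refine absurd this (not_lt.mpr ?_)
  rw [weight_eq_sum c ξ]
  simp only [map_sum, LinearMap.sum_apply, map_smul, LinearMap.smul_apply, smul_eq_mul]
  refine Finset.sum_le_sum fun i _ => ?_
  rcases sgn_simple F hc i.2 with e | e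
  · exact mul_le_mul_of_nonneg_left (h2 c hc i e) (hdom i i.2 e)
  · rw [h1 c hc i e]

theorem dualSolid_eq (F : RootCh.Facet P) :
    RootCh.dualSolid d F =
      (⋂ m ∈ F.corners, RootCh.hyper d m) ∩ ⋂ m ∈ F.corners', RootCh.halfClosed d m := by
  ext x
  simp only [mem_inter_iff, mem_iInter, RootCh.hyper, RootCh.halfClosed, mem_ofPred_eq]
  constructor
  · intro hx
    refine ⟨fun m hm b hb => ?_, fun m _ b hb => dualSolid_subset hd F hx hb⟩
    obtain ⟨c, hc⟩ := cham_nonempty F
    rw [pairing_dualSolid hd F hx (span_corners_eq_killed F ▸ Submodule.subset_span hm) hc]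
    exact hd.corner_eq c b m (corners_subset_baseCorners F hc hm) hb
  · rintro ⟨h1, h2⟩
    refine mem_dualSolid_of_forall hd F (fun c hc i hi => ?_) fun c hc i _ => ?_
    · refine h1 _ ?_ c (by rw [baseCorners_eq]; exact ⟨i, rfl⟩)
      rw [corners_eq F hc]; exact ⟨i, hi, rfl⟩
    · have hb : RootCh.fundWeight c i ∈ RootCh.baseCorners c := by
        rw [baseCorners_eq]; exact ⟨i, rfl⟩
      exact h2 _ (mem_biUnion hc hb) c hb

end Groth.Agent.H84.RC
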