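import Groth.Agent.H84.RC.Basic
import Mathlib.LinearAlgebra.FiniteDimensional.Basic

/-! Facets, adjacent chambers, corners and parabolic sets. -/

noncomputable section

open Set Function Module
open scoped Classical
open Groth.Agent.Lib.RootDatum Groth.Agent.Lib.RootDatum.Basic

namespace Groth.Agent.H84.RC

variable {ι R M N : Type*} [Field R] [LinearOrder R] [IsStrictOrderedRing R]
  [AddCommGroup M] [Module R M] [AddCommGroup N] [Module R N] [Finite ι]
  {P : RootPairing ι R M N} [P.IsRootSystem] [P.IsCrystallographic] [P.IsReduced]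
  (F : RootCh.Facet P)

lemma exists_witness : ∃ ξ : M, ∀ i, SignType.sign (P.coroot' i ξ) = F.sgn i := by
  obtain ⟨ξ, h⟩ := F.exists_sgnVec_eq
  exact ⟨ξ, congrFun h⟩

lemma sgn_negIdx (i : ι) : F.sgn (negIdx P i) = -F.sgn i := by
  obtain ⟨ξ, h⟩ := exists_witness F
  rw [← h, ← h, coroot'_negIdx, Left.sign_neg]

lemma mem_cham_iff_simple {b : P.Base} : b ∈ F.cham ↔ ∀ i ∈ b.support, F.sgn i ≠ -1 := by
  constructor
  · intro h i hi e
    obtain ⟨ξ, hξ⟩ := exists_witness F
    have := h (show ξ ∈ F.carrier from funext hξ) i hi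
    rw [← hξ, sign_eq_neg_one_iff] at e
    exact absurd e (not_lt.mpr this)
  · intro h ξ hξ i hi
    by_contra hlt
    exact h i hi (by rw [← congrFun (hξ : RootCh.sgnVec P ξ = F.sgn) i]; exact sign_eq_neg_one_iff.mpr (not_le.mp hlt))

lemma witness_nonneg {b : P.Base} (hb : b ∈ F.cham) {ξ : M}
    (hξ : ∀ i, SignType.sign (P.coroot' i ξ) = F.sgn i) : ∀ i ∈ b.support, 0 ≤ P.coroot' i ξ :=
  fun i hi => hb (show ξ ∈ F.carrier from funext hξ) i hi

lemma sgn_ne_neg_one {b : P.Base} (hb : b ∈ F.cham) {k : ι} (hk : b.IsPos k) : F.sgn k ≠ -1 := by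
  obtain ⟨ξ, hξ⟩ := exists_witness F
  rw [← hξ, ne_eq, sign_eq_neg_one_iff, not_lt]
  exact coroot'_nonneg b (witness_nonneg F hb hξ) hk

lemma isPos_of_sgn {b : P.Base} (hb : b ∈ F.cham) {k : ι} (h : F.sgn k = 1) : b.IsPos k := by
  by_contra hk
  exact sgn_ne_neg_one F hb ((isPos_negIdx b k).mpr hk) (by rw [sgn_negIdx, h])

lemma mem_cham_of_forall {b : P.Base} (h : ∀ i, F.sgn i = 1 → b.IsPos i) : b ∈ F.cham := by
  rw [mem_cham_iff_simple]
  intro i hi e
  exact (isPos_negIdx b i).mp (h _ (by rw [sgn_negIdx, e]; rfl)) (RootPairing.Base.isPos_of_mem_support hi)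

lemma exists_cham_refine (b₀ : P.Base) :
    ∃ b ∈ F.cham, ∀ i, b.IsPos i ↔ F.sgn i = 1 ∨ (F.sgn i = 0 ∧ b₀.IsPos i) := by
  haveI := Fintype.ofFinite ι
  obtain ⟨ξ, hξ⟩ := exists_witness F
  obtain ⟨b, hb⟩ := exists_base_refine (P.RootForm ξ) b₀
  have key : ∀ i, b.IsPos i ↔ F.sgn i = 1 ∨ (F.sgn i = 0 ∧ b₀.IsPos i) := fun i => by
    rw [hb, ← hξ, sign_coroot', sign_eq_one_iff, sign_eq_zero_iff]
  exact ⟨b, mem_cham_of_forall F fun i hi => (key i).mpr (Or.inl hi), key⟩

lemma cham_nonempty : F.cham.Nonempty := by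
  obtain ⟨b₀⟩ := P.nonempty_base
  obtain ⟨b, hb, -⟩ := exists_cham_refine F b₀
  exact ⟨b, hb⟩

lemma sgn_simple {b : P.Base} (hb : b ∈ F.cham) {i : ι} (hi : i ∈ b.support) :
    F.sgn i = 0 ∨ F.sgn i = 1 := by
  have h1 := (mem_cham_iff_simple F).mp hb i hi
  rcases (F.sgn i).trichotomy with e | e | e
  · exact absurd e h1
  · exact Or.inl e
  · exact Or.inr e

lemma sgn_eq_zero_iff_coef {b : P.Base} (hb : b ∈ F.cham) {k : ι} (hk : b.IsPos k) :
    F.sgn k = 0 ↔ ∀ i : b.support, F.sgn i = 1 → P.root' k (RootCh.fundCoweight b i) = 0 := by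
  obtain ⟨ξ, hξ⟩ := exists_witness F
  rw [← hξ, sign_eq_zero_iff, coroot'_eq_zero_iff b (witness_nonneg F hb hξ) hk]
  refine forall_congr' fun i => imp_congr_left ?_
  rw [ne_eq, ← sign_eq_zero_iff (a := P.coroot' i ξ), hξ]
  rcases sgn_simple F hb i.2 with e | e <;> simp [e]

lemma facet_eq {G : RootCh.Facet P} {b : P.Base} (hF : b ∈ F.cham) (hG : b ∈ G.cham)
    (h : ∀ i ∈ b.support, F.sgn i = G.sgn i) : F = G := by
  have key : ∀ k, b.IsPos k → F.sgn k = G.sgn k := fun k hk => by
    have e : F.sgn k = 0 ↔ G.sgn k = 0 := by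
      rw [sgn_eq_zero_iff_coef F hF hk, sgn_eq_zero_iff_coef G hG hk]
      exact forall_congr' fun i => by rw [h i i.2]
    have h1 := sgn_ne_neg_one F hF hk
    have h2 := sgn_ne_neg_one G hG hk
    rcases (F.sgn k).trichotomy with a | a | a <;> rcases (G.sgn k).trichotomy with c | c | c <;>
      simp_all
  refine RootCh.Facet.ext (funext fun k => ?_)
  by_cases hk : b.IsPos k
  · exact key k hk
  · have := key _ ((isPos_negIdx b k).mpr hk)
    rw [sgn_negIdx, sgn_negIdx] at this
    exact neg_injective this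

/-- The facet of a chamber having as corners the weights indexed by `J`. -/
def facetOf (b : P.Base) (J : Finset b.support) : RootCh.Facet P :=
  RootCh.Facet.ofVec P (∑ i ∈ J, RootCh.fundWeight b i)

lemma sgn_facetOf_simple (b : P.Base) (J : Finset b.support) (i : b.support) :
    (facetOf b J).sgn i = if i ∈ J then 1 else 0 := by
  change SignType.sign (P.coroot' i (∑ j ∈ J, RootCh.fundWeight b j)) = _
  simp only [map_sum, coroot'_fundWeight, Finset.sum_ite_eq]
  split_ifs <;> simp

lemma mem_cham_facetOf (b : P.Base) (J : Finset b.support) : b ∈ (facetOf b J).cham :=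
  (mem_cham_iff_simple _).mpr fun i hi => by
    rw [sgn_facetOf_simple b J ⟨i, hi⟩]; split_ifs <;> decide

lemma finrank_eq (b : P.Base) : finrank R M = b.support.card := by
  rw [finrank_eq_card_basis b.toWeightBasis, Fintype.card_coe]

lemma card_filter_cham {b b' : P.Base} (hb : b ∈ F.cham) (hb' : b' ∈ F.cham) :
    (b.support.filter fun i => F.sgn i = 1).card = (b'.support.filter fun i => F.sgn i = 1).card := by
  have key : ∀ c : P.Base, c ∈ F.cham → (c.support.filter fun i => F.sgn i = 0).card =
      finrank R (Submodule.span R (P.root '' {l | F.sgn l = 0})) := by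
    intro c hc
    have hli : LinearIndependent R (fun i : ↥(c.support.filter fun i => F.sgn i = 0) => P.root i) :=
      LinearIndepOn.mono (t := ((c.support.filter fun i => F.sgn i = 0 : Finset ι) : Set ι))
        c.linearIndepOn_root (Finset.coe_subset.mpr (Finset.filter_subset _ _))
    rw [← Fintype.card_coe, ← finrank_span_eq_card hli]
    have hsp : Submodule.span R (Set.range fun i : ↥(c.support.filter fun i => F.sgn i = 0) => P.root i) =
        Submodule.span R (P.root '' {l | F.sgn l = 0}) := by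
      refine le_antisymm (Submodule.span_mono ?_) (Submodule.span_le.mpr ?_)
      · rintro _ ⟨i, rfl⟩
        exact ⟨i, (Finset.mem_filter.mp i.2).2, rfl⟩
      · rintro _ ⟨l, hl, rfl⟩
        have main : ∀ l, c.IsPos l → F.sgn l = 0 → P.root l ∈ Submodule.span R
            (Set.range fun i : ↥(c.support.filter fun i => F.sgn i = 0) => P.root i) := by
          intro l hlp hl
          rw [root_eq_sum c (P.root l)]
          refine Submodule.sum_mem _ fun i _ => ?_
          rcases sgn_simple F hc i.2 with e | e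
          · exact Submodule.smul_mem _ _ (Submodule.subset_span
              ⟨⟨i, Finset.mem_filter.mpr ⟨i.2, e⟩⟩, rfl⟩)
          · rw [show P.toLinearMap (P.root l) (RootCh.fundCoweight c i) = 0 from
              (sgn_eq_zero_iff_coef F hc hlp).mp hl i e, zero_smul]
            exact Submodule.zero_mem _
        by_cases hlp : c.IsPos l
        · exact main l hlp hl
        · have hl' : F.sgn (negIdx P l) = 0 := by
            rw [sgn_negIdx, show F.sgn l = 0 from hl]; rfl
          simpa using Submodule.neg_mem _ (main _ ((isPos_negIdx c l).mpr hlp) hl')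
    rw [hsp]
  have tot : ∀ c : P.Base, c ∈ F.cham → (c.support.filter fun i => F.sgn i = 1).card +
      (c.support.filter fun i => F.sgn i = 0).card = finrank R M := by
    intro c hc
    rw [finrank_eq c, ← Finset.card_union_of_disjoint, ← Finset.filter_or]
    · rw [Finset.filter_true_of_mem fun i hi => (sgn_simple F hc hi).symm]
    · refine Finset.disjoint_filter.mpr fun i _ h => ?_
      simp [h]
  have := tot b hb
  have := tot b' hb'
  rw [key b hb] at *
  rw [key b' hb'] at *
  omega

theorem baseCorners_eq (b : P.Base) : RootCh.baseCorners b = range (RootCh.fundWeight b) := by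
  refine Subset.antisymm ?_ ?_
  · rintro w ⟨⟨b', k, hk⟩, hw⟩
    let F := RootCh.Facet.ofVec P w
    have hFk : ∀ i : b'.support, F.sgn i = if i = k then 1 else 0 := fun i => by
      change SignType.sign (P.coroot' i w) = _
      rw [← hk, coroot'_fundWeight]
      split_ifs <;> simp
    have hb' : b' ∈ F.cham := (mem_cham_iff_simple F).mpr fun i hi => by
      rw [hFk ⟨i, hi⟩]; split_ifs <;> decide
    have hb : b ∈ F.cham := (mem_cham_iff_simple F).mpr fun i hi e => by
      exact absurd (sign_eq_neg_one_iff.mp e) (not_lt.mpr (hw i hi))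
    have h1 : (b'.support.filter fun i => F.sgn i = 1) = {(k : ι)} := by
      ext i
      simp only [Finset.mem_filter, Finset.mem_singleton]
      constructor
      · rintro ⟨hi, e⟩
        rw [hFk ⟨i, hi⟩] at e
        split_ifs at e with h
        exact congrArg Subtype.val h
      · rintro rfl
        exact ⟨k.2, by rw [hFk k, if_pos rfl]⟩
    have h2 : (b.support.filter fun i => F.sgn i = 1).card = 1 := by
      rw [card_filter_cham F hb hb', h1, Finset.card_singleton]
    obtain ⟨j, hj⟩ := Finset.card_eq_one.mp h2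
    have hjm := (Finset.ext_iff.mp hj j).mpr (Finset.mem_singleton_self j)
    rw [Finset.mem_filter] at hjm
    have hzero : ∀ i ∈ b.support, i ≠ j → P.coroot' i w = 0 := fun i hi hne => by
      rcases sgn_simple F hb hi with e | e
      · exact sign_eq_zero_iff.mp e
      · exact absurd (Finset.mem_singleton.mp ((Finset.ext_iff.mp hj i).mp
          (Finset.mem_filter.mpr ⟨hi, e⟩))) hne
    have hw' : w = P.coroot' j w • RootCh.fundWeight b ⟨j, hjm.1⟩ := by
      conv_lhs => rw [weight_eq_sum b w]
      rw [Finset.sum_eq_single ⟨j, hjm.1⟩]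
      · intro i _ hi
        rw [hzero i i.2 fun h => hi (Subtype.ext h), zero_smul]
      · simp
    have hwpos : 0 < P.coroot' j w := sign_eq_one_iff.mp hjm.2
    obtain ⟨n, hn⟩ := exists_int_coroot' b' j k
    obtain ⟨m, hm⟩ := exists_int_coroot' b (k : ι) ⟨j, hjm.1⟩
    rw [hk] at hn
    have h3 := RootCh.coroot'_fundWeight_self b' k
    rw [hk, hw', map_smul, hm, hn, smul_eq_mul] at h3
    have hnm : n * m = 1 := by exact_mod_cast h3
    rw [hn] at hwpos
    have hn1 : n = 1 := Int.eq_one_of_mul_eq_one_right (by exact_mod_cast hwpos.le) hnm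
    refine ⟨⟨j, hjm.1⟩, ?_⟩
    rw [hw', hn, hn1, Int.cast_one, one_smul]
  · rintro _ ⟨i, rfl⟩
    refine ⟨⟨b, i, rfl⟩, fun j hj => ?_⟩
    rw [coroot'_fundWeight b i ⟨j, hj⟩]
    split_ifs <;> simp

theorem corners_eq {b : P.Base} (hb : b ∈ F.cham) :
    F.corners = RootCh.fundWeight b '' {i : b.support | F.sgn i = 1} := by
  ext w
  constructor
  · rintro ⟨hw, hcl⟩
    have hwb : w ∈ RootCh.baseCorners b := ⟨hw, fun i hi => by
      rcases hcl i with e | e
      · exact (sign_eq_zero_iff.mp e).ge
      · by_contra hlt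
        exact (mem_cham_iff_simple F).mp hb i hi (e ▸ sign_eq_neg_one_iff.mpr (not_le.mp hlt))⟩
    rw [baseCorners_eq] at hwb
    obtain ⟨i, rfl⟩ := hwb
    refine ⟨i, ?_, rfl⟩
    have h1 : RootCh.sgnVec P (RootCh.fundWeight b i) i = 1 := by
      change SignType.sign (P.coroot' i (RootCh.fundWeight b i)) = 1
      rw [RootCh.coroot'_fundWeight_self, sign_one]
    rcases hcl i with e | e
    · rw [h1] at e; exact absurd e (by decide)
    · exact e.symm.trans h1
  · rintro ⟨i, hi, rfl⟩
    refine ⟨⟨b, i, rfl⟩, ?_⟩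
    have key : ∀ k, b.IsPos k → RootCh.sgnVec P (RootCh.fundWeight b i) k = 0 ∨
        RootCh.sgnVec P (RootCh.fundWeight b i) k = F.sgn k := fun k hk => by
      have hnn : ∀ j ∈ b.support, 0 ≤ P.coroot' j (RootCh.fundWeight b i) := fun j hj => by
        rw [coroot'_fundWeight b i ⟨j, hj⟩]; split_ifs <;> simp
      rcases (coroot'_nonneg b hnn hk).lt_or_eq with h | h
      · refine Or.inr ((sign_eq_one_iff.mpr h).trans ?_)
        have hne := sgn_ne_neg_one F hb hk
        rcases (F.sgn k).trichotomy with e | e | e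
        · exact absurd e hne
        · exfalso
          refine h.ne' ((coroot'_eq_zero_iff b hnn hk).mpr fun j hj => ?_)
          rw [coroot'_fundWeight] at hj
          split_ifs at hj with hji
          · subst hji
            exact (sgn_eq_zero_iff_coef F hb hk).mp e j hi
          · exact absurd rfl hj
        · exact e.symm
      · exact Or.inl (sign_eq_zero_iff.mpr h.symm)
    intro k
    by_cases hk : b.IsPos k
    · exact key k hk
    · have := key _ ((isPos_negIdx b k).mpr hk)
      simp only [RootCh.sgnVec, coroot'_negIdx, Left.sign_neg, sgn_negIdx] at this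
      rcases this with e | e
      · exact Or.inl (neg_injective (e.trans (by rfl)))
      · exact Or.inr (neg_injective e)

lemma corners_facetOf (b : P.Base) (J : Finset b.support) :
    (facetOf b J).corners = RootCh.fundWeight b '' (J : Set b.support) := by
  rw [corners_eq _ (mem_cham_facetOf b J)]
  congr 1
  ext i
  simp only [mem_ofPred_eq, sgn_facetOf_simple, Finset.mem_coe]
  split_ifs with h <;> simp [h]

lemma corners_subset_baseCorners {b : P.Base} (hb : b ∈ F.cham) :
    F.corners ⊆ RootCh.baseCorners b := by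
  rw [corners_eq F hb, baseCorners_eq]
  exact image_subset_range _ _

end Groth.Agent.H84.RC
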