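import Groth.Agent.H84.RC.CCS
import Mathlib.LinearAlgebra.FiniteDimensional.Lemmas

/-! Elementary sets, the point of a facet, special facets. -/

noncomputable section

open Set Function Module
open scoped Classical
open Groth.Agent.Lib.RootDatum Groth.Agent.Lib.RootDatum.Basic

namespace Groth.Agent.H84.RC

variable {ι R M N : Type*} [Field R] [LinearOrder R] [IsStrictOrderedRing R]
  [AddCommGroup M] [Module R M] [AddCommGroup N] [Module R N] [Finite ι]
  {P : RootPairing ι R M N} [P.IsRootSystem] [P.IsCrystallographic] [P.IsReduced]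

/-- The pairing between the spans of a facet and of its dual facet is non-degenerate. -/
lemma eq_zero_of_pairing (F : RootCh.Facet P) {y : N} (hy : y ∈ Submodule.span R F.dualCarrier)
    (h : ∀ η ∈ killed F, P.toLinearMap η y = 0) : y = 0 := by
  haveI := Fintype.ofFinite ι
  obtain ⟨η, rfl⟩ := P.PolarizationEquiv.surjective y
  have hη : η ∈ killed F := mem_killed.mpr fun l hl => by
    have h1 := (mem_span_dualCarrier_iff F).mp hy l hl
    have e := congrFun (cosgnVec_polarization (P := P) η) l
    simp only [RootCh.cosgnVec, RootCh.sgnVec, h1, sign_zero] at e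
    exact sign_eq_zero_iff.mp e.symm
  have h0 := h η hη
  rw [RootPairing.polarizationEquiv_apply, P.toLinearMap_apply_apply_Polarization] at h0
  by_contra hne
  exact (rf_pos (P := P) (x := η) fun e => hne (by rw [e, map_zero])).ne' h0

lemma coweight_mem_span (F : RootCh.Facet P) {b : P.Base} (hb : b ∈ F.cham) {i : b.support}
    (hi : F.sgn i = 1) : RootCh.fundCoweight b i ∈ Submodule.span R F.dualCarrier := by
  refine (mem_span_dualCarrier_iff F).mpr fun l hl => ?_
  refine root'_coweight_eq_zero F ?_ ((corr_iff b i _).mpr rfl) hl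
  rw [corners_eq F hb]
  exact ⟨i, hi, rfl⟩

/-- The point of the span of the dual facet with prescribed pairing with the span of the facet. -/
lemma exists_point (F : RootCh.Facet P) (z : N) :
    ∃ y ∈ Submodule.span R F.dualCarrier, ∀ η ∈ killed F, P.toLinearMap η y = P.toLinearMap η z := by
  obtain ⟨b, hb⟩ := cham_nonempty F
  let J : Finset b.support := Finset.univ.filter fun i : b.support => F.sgn i = 1
  let L : (↥J → R) →ₗ[R] N :=
    Fintype.linearCombination R fun i : ↥J => RootCh.fundCoweight b (i : b.support)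
  let T : (↥J → R) →ₗ[R] (↥J → R) :=
    (LinearMap.pi fun j : ↥J => P.toLinearMap (RootCh.fundWeight b (j : b.support))).comp L
  have hLmem : ∀ a, L a ∈ Submodule.span R F.dualCarrier := fun a => by
    rw [Fintype.linearCombination_apply]
    exact Submodule.sum_mem _ fun i _ => Submodule.smul_mem _ _
      (coweight_mem_span F hb (Finset.mem_filter.mp i.2).2)
  have hinj : Injective T := by
    refine (injective_iff_map_eq_zero T).mpr fun a ha => funext fun j => ?_
    have hL : L a = 0 := by
      refine eq_zero_of_pairing F (hLmem a) fun η hη => ?_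
      rw [killed_expansion F hb hη (L a)]
      refine Finset.sum_eq_zero fun i hi => ?_
      rw [show P.toLinearMap (RootCh.fundWeight b i) (L a) = 0 from congrFun ha ⟨i, hi⟩, mul_zero]
    have h2 := congrArg (P.root' (j : b.support)) hL
    rw [map_zero, Fintype.linearCombination_apply, map_sum, Finset.sum_eq_single j] at h2
    · rwa [map_smul, RootCh.root'_fundCoweight_self, smul_eq_mul, mul_one] at h2
    · intro i _ hne
      rw [map_smul, RootCh.root'_fundCoweight_of_ne b i j
        (fun e => hne (Subtype.ext e.symm)), smul_zero]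
    · simp
  obtain ⟨a, ha⟩ := LinearMap.injective_iff_surjective.mp hinj
    (fun j : ↥J => P.toLinearMap (RootCh.fundWeight b (j : b.support)) z)
  refine ⟨L a, hLmem a, fun η hη => ?_⟩
  rw [killed_expansion F hb hη, killed_expansion F hb hη]
  refine Finset.sum_congr rfl fun i hi => ?_
  rw [show P.toLinearMap (RootCh.fundWeight b i) (L a) = P.toLinearMap (RootCh.fundWeight b i) z
    from congrFun ha ⟨i, hi⟩]

variable {d : P.Base → N} (hd : RootCh.IsCCS d)
include hd

lemma mem_hyper_of_pairing (F : RootCh.Facet P) {b : P.Base} (hb : b ∈ F.cham) {y : N}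
    (h : ∀ η ∈ killed F, P.toLinearMap η y = P.toLinearMap η (d b)) :
    y ∈ ⋂ m ∈ F.corners, RootCh.hyper d m := by
  simp only [mem_iInter, RootCh.hyper, mem_ofPred_eq]
  intro m hm c hc
  rw [h m (span_corners_eq_killed F ▸ Submodule.subset_span hm)]
  exact hd.corner_eq b c m (corners_subset_baseCorners F hb hm) hc

theorem yLocus_eq (F : RootCh.Facet P) {b : P.Base} (hb : b ∈ F.cham) {y : N}
    (hy : y ∈ Submodule.span R F.dualCarrier)
    (h : ∀ η ∈ killed F, P.toLinearMap η y = P.toLinearMap η (d b)) :
    RootCh.yLocus d F = {y} := by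
  refine Set.eq_singleton_iff_unique_mem.mpr ⟨⟨mem_hyper_of_pairing hd F hb h, hy⟩, ?_⟩
  rintro z ⟨hz, hz'⟩
  simp only [mem_iInter, RootCh.hyper, mem_ofPred_eq] at hz
  refine sub_eq_zero.mp (eq_zero_of_pairing F (Submodule.sub_mem _ hz' hy) fun η hη => ?_)
  rw [map_sub, h η hη, sub_eq_zero]
  rw [← span_corners_eq_killed] at hη
  refine Submodule.span_induction (fun w hw => ?_) ?_ (fun u v _ _ hu hv => ?_)
    (fun r u _ hu => ?_) hη
  · exact hz w hw b (corners_subset_baseCorners F hb hw)
  · simp
  · simp only [map_add, LinearMap.add_apply, hu, hv]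
  · simp only [map_smul, LinearMap.smul_apply, hu]

/-- The numerical invariant is the pairing of the value with the sum of the elementary roots. -/
lemma numInv_eq (F : RootCh.Facet P) (m : M) (b : P.Base) :
    F.numInv d m b = P.toLinearMap (∑ k ∈ (Set.toFinite (F.Psi m)).toFinset, P.root k) (d b) := by
  rw [map_sum, LinearMap.sum_apply]; rfl

omit hd

lemma psi_sum_mem_killed (F : RootCh.Facet P) {m : M} (hm : m ∈ F.corners) :
    ∑ k ∈ (Set.toFinite (F.Psi m)).toFinset, P.root k ∈ killed F := by
  refine mem_killed.mpr fun l hl => coroot'_sum_eq_zero fun k hk => ?_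
  rw [Set.Finite.mem_toFinset] at hk ⊢
  refine ⟨fun x hx => ?_, fun w' hw' hne x hx => ?_⟩
  · rw [root'_reflectionPerm, root'_coweight_eq_zero F hm hx hl, mul_zero, sub_zero, hk.1 x hx]
  · rw [root'_reflectionPerm, root'_coweight_eq_zero F hw' hx hl, mul_zero, sub_zero,
      hk.2 w' hw' hne x hx]

lemma root'_of_mem_psi (F : RootCh.Facet P) {b : P.Base} (hb : b ∈ F.cham) {i : b.support}
    (hi : F.sgn i = 1) {k : ι} (hk : k ∈ F.Psi (RootCh.fundWeight b i)) {y : N}
    (hy : y ∈ Submodule.span R F.dualCarrier) : P.root' k y = P.root' i y := by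
  conv_lhs => rw [coweight_eq_sum b y]
  rw [map_sum, Finset.sum_eq_single i]
  · rw [map_smul, hk.1 _ ((corr_iff b i _).mpr rfl), smul_eq_mul, mul_one]
  · intro j _ hne
    rcases sgn_simple F hb j.2 with e | e
    · rw [(mem_span_dualCarrier_iff F).mp hy j e, zero_smul, map_zero]
    · rw [map_smul, hk.2 _ (by rw [corners_eq F hb]; exact ⟨j, e, rfl⟩)
        (fun h => hne (fundWeight_injective b h)) _ ((corr_iff b j _).mpr rfl), smul_zero]
  · simp

lemma self_mem_psi (F : RootCh.Facet P) {b : P.Base} (hb : b ∈ F.cham) (i : b.support) :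
    (i : ι) ∈ F.Psi (RootCh.fundWeight b i) := by
  refine ⟨fun x hx => ?_, fun w' hw' hne x hx => ?_⟩
  · rw [(corr_iff b i x).mp hx, RootCh.root'_fundCoweight_self]
  · rw [corners_eq F hb] at hw'
    obtain ⟨j, -, rfl⟩ := hw'
    rw [(corr_iff b j x).mp hx]
    exact RootCh.root'_fundCoweight_of_ne b j i fun h => hne (h ▸ rfl)

include hd

/-- The numerical invariant at a point of the span of the dual facet. -/
lemma numInv_eq_mul (F : RootCh.Facet P) {b c : P.Base} (hb : b ∈ F.cham) (hc : c ∈ F.cham)
    {i : b.support} (hi : F.sgn i = 1) {y : N} (hy : y ∈ Submodule.span R F.dualCarrier)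
    (h : ∀ η ∈ killed F, P.toLinearMap η y = P.toLinearMap η (d c)) :
    F.numInv d (RootCh.fundWeight b i) c =
      ((Set.toFinite (F.Psi (RootCh.fundWeight b i))).toFinset.card : R) * P.root' i y := by
  rw [numInv_eq hd, ← h _ (psi_sum_mem_killed F (by rw [corners_eq F hb]; exact ⟨i, hi, rfl⟩)),
    map_sum, LinearMap.sum_apply, ← nsmul_eq_mul, ← Finset.sum_const]
  exact Finset.sum_congr rfl fun k hk =>
    root'_of_mem_psi F hb hi ((Set.Finite.mem_toFinset _).mp hk) hy

omit hd in
lemma mem_dualCarrier_iff (F : RootCh.Facet P) {b : P.Base} (hb : b ∈ F.cham) {y : N}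
    (hy : y ∈ Submodule.span R F.dualCarrier) :
    y ∈ F.dualCarrier ↔ ∀ i : b.support, F.sgn i = 1 → 0 < P.root' i y := by
  refine ⟨fun h i hi => sign_eq_one_iff.mp ((congrFun h i).trans hi), fun h => ?_⟩
  have h0 := (mem_span_dualCarrier_iff F).mp hy
  let G : RootCh.Facet P.flip := RootCh.Facet.ofVec P.flip y
  have hbG : b.flip ∈ G.cham := (mem_cham_iff_simple G).mpr fun i hi => by
    change SignType.sign (P.root' i y) ≠ -1
    rcases sgn_simple F hb hi with e | e
    · rw [h0 i e, sign_zero]; decide
    · rw [sign_pos (h ⟨i, hi⟩ e)]; decide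
  have := facet_eq G (G := dualFacet F) hbG ((flip_mem_cham_iff F).mpr hb) fun i hi => by
    change SignType.sign (P.root' i y) = F.sgn i
    rcases sgn_simple F hb hi with e | e
    · rw [h0 i e, sign_zero, e]
    · rw [sign_pos (h ⟨i, hi⟩ e), e]
  exact congrArg RootCh.Facet.sgn this

theorem special_point (F : RootCh.Facet P) (hF : RootCh.IsSpecial d F) :
    ∃ y : N, y ∈ F.dualCarrier ∧ y ∈ RootCh.dualSolid d F ∧ RootCh.yLocus d F = {y} ∧
      F.dualCarrier ∩ RootCh.dualSolid d F = {y} := by
  obtain ⟨y, hy, hys⟩ := hF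
  obtain ⟨b, hb⟩ := cham_nonempty F
  have hloc := yLocus_eq hd F hb (Submodule.subset_span hy)
    (fun η hη => pairing_dualSolid hd F hys hη hb)
  refine ⟨y, hy, hys, hloc, Set.eq_singleton_iff_unique_mem.mpr ⟨⟨hy, hys⟩, ?_⟩⟩
  rintro z ⟨hz, hzs⟩
  have := yLocus_eq hd F hb (Submodule.subset_span hz)
    (fun η hη => pairing_dualSolid hd F hzs hη hb)
  rw [hloc] at this
  exact (Set.singleton_eq_singleton_iff.mp this).symm

omit hd in
lemma dualSolid_subset_solid (F : RootCh.Facet P) : RootCh.dualSolid d F ⊆ RootCh.solid d :=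
  convexHull_mono (image_subset_range _ _)

omit hd in
lemma dualSolid_origin : RootCh.dualSolid d (RootCh.Facet.origin P) = RootCh.solid d := by
  have : (RootCh.Facet.origin P).cham = Set.univ := eq_univ_of_forall fun b =>
    mem_cham_of_forall _ fun i hi => by
      simp [RootCh.Facet.origin, RootCh.Facet.ofVec, RootCh.sgnVec] at hi
  rw [RootCh.dualSolid, this, image_univ]; rfl

lemma le_solid {x : N} (hx : x ∈ RootCh.solid d) {w : M} {b : P.Base}
    (hw : w ∈ RootCh.baseCorners b) : P.toLinearMap w (d b) ≤ P.toLinearMap w x := by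
  rw [← dualSolid_origin] at hx
  exact dualSolid_subset hd _ hx hw

lemma mem_solid {x : N} (h : ∀ (b : P.Base), ∀ w ∈ RootCh.baseCorners b,
    P.toLinearMap w (d b) ≤ P.toLinearMap w x) : x ∈ RootCh.solid d := by
  rw [← dualSolid_origin]
  refine mem_dualSolid_of_forall hd _ (fun c _ i hi => ?_) fun c _ i _ => ?_
  · simp [RootCh.Facet.origin, RootCh.Facet.ofVec, RootCh.sgnVec] at hi
  · exact h c _ (by rw [baseCorners_eq]; exact ⟨i, rfl⟩)

theorem semistable_iff : RootCh.IsSemistable d ↔
    ∀ (b : P.Base), ∀ w ∈ RootCh.baseCorners b, P.toLinearMap w (d b) ≤ 0 := by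
  refine ⟨fun h b w hw => by simpa using le_solid hd h hw, fun h => mem_solid hd ?_⟩
  intro b w hw; simpa using h b w hw

omit hd in
lemma coroot'_nonneg_of_sgn_one (F : RootCh.Facet P) {i : ι} (h : F.sgn i = 1) :
    0 < P.coroot' i (rho F) := coroot'_rho_pos F h

omit hd in
lemma pos_of_mem_facetOf_singleton (b : P.Base) (i : b.support) :
    (facetOf b {i}).sgn i = 1 := by
  rw [sgn_facetOf_simple, if_pos (Finset.mem_singleton_self i)]

lemma deg_singleton (b : P.Base) (i : b.support) :
    (facetOf b {i}).deg d b =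
      P.coroot' i (rho (facetOf b {i})) * P.toLinearMap (RootCh.fundWeight b i) (d b) := by
  rw [deg_eq hd, killed_expansion _ (mem_cham_facetOf b {i}) (rho_mem_killed _)]
  rw [Finset.sum_eq_single_of_mem i (by simp [pos_of_mem_facetOf_singleton])]
  intro j hj hne
  simp [sgn_facetOf_simple, hne] at hj

lemma dim_eq (F : RootCh.Facet P) {b : P.Base} (hb : b ∈ F.cham) :
    F.dim = (Finset.univ.filter fun i : b.support => F.sgn i = 1).card := by
  have hinj := fundWeight_injective b
  have hli : LinearIndependent R (RootCh.fundWeight b) := by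
    refine Fintype.linearIndependent_iff.mpr fun g hg i => ?_
    have := congrArg (P.coroot' i) hg
    rw [map_zero, map_sum, Finset.sum_eq_single i] at this
    · rwa [map_smul, RootCh.coroot'_fundWeight_self, smul_eq_mul, mul_one] at this
    · intro j _ hne
      rw [map_smul, RootCh.coroot'_fundWeight_of_ne b j i (Ne.symm hne), smul_zero]
    · simp
  unfold RootCh.Facet.dim
  rw [span_carrier_eq_killed, ← span_corners_eq_killed, corners_eq F hb, ← Fintype.card_subtype,
    ← finrank_span_eq_card (hli.comp (Subtype.val : {i : b.support // F.sgn i = 1} → _)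
      Subtype.val_injective)]
  congr 2
  all_goals rw [Set.range_comp, Subtype.range_coe_subtype]

theorem deg_le_of_special (F : RootCh.Facet P) {b : P.Base} (hb : b ∈ F.cham)
    (hF : RootCh.IsSpecial d F) (G : RootCh.Facet P) {c : P.Base} (hc : c ∈ G.cham) :
    G.deg d c ≤ F.deg d b ∧ (G.deg d c = F.deg d b → G ≤ F) := by
  obtain ⟨x, hx, hxs, -, -⟩ := special_point hd F hF
  have h1 : G.deg d c ≤ P.toLinearMap (rho G) x := by
    rw [deg_eq hd, killed_expansion G hc (rho_mem_killed G), killed_expansion G hc (rho_mem_killed G)]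
    refine Finset.sum_le_sum fun i hi => mul_le_mul_of_nonneg_left ?_ ?_
    · exact le_solid hd (dualSolid_subset_solid F hxs) (by rw [baseCorners_eq]; exact ⟨i, rfl⟩)
    · exact (coroot'_rho_pos G (Finset.mem_filter.mp hi).2).le
  have h2 : P.toLinearMap (rho F) x = F.deg d b := by
    rw [deg_eq hd, pairing_dualSolid hd F hxs (rho_mem_killed F) hb]
  have hsx : ∀ k, SignType.sign (P.root' k x) = F.sgn k := congrFun hx
  let A := (Set.toFinite G.parab).toFinset
  let B := (Set.toFinite F.posPart).toFinset
  have hG : P.toLinearMap (rho G) x = ∑ k ∈ A, P.root' k x := by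
    rw [← sum_parab_eq, map_sum, LinearMap.sum_apply]
  have hF' : P.toLinearMap (rho F) x = ∑ k ∈ B, P.root' k x := by
    rw [rho, map_sum, LinearMap.sum_apply]
  have hdiff : P.toLinearMap (rho G) x - P.toLinearMap (rho F) x =
      ∑ k ∈ A \ B, P.root' k x - ∑ k ∈ B \ A, P.root' k x := by
    rw [hG, hF', Finset.sum_sdiff_sub_sum_sdiff]
  have hA : ∀ k ∈ A \ B, P.root' k x ≤ 0 := fun k hk => by
    simp only [A, B, Finset.mem_sdiff, Set.Finite.mem_toFinset, RootCh.Facet.posPart,
      mem_ofPred_eq] at hk
    by_contra h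
    exact hk.2 ((hsx k).symm.trans (sign_pos (not_le.mp h)))
  have hB : ∀ k ∈ B \ A, 0 < P.root' k x := fun k hk => by
    simp only [A, B, Finset.mem_sdiff, Set.Finite.mem_toFinset, RootCh.Facet.posPart,
      mem_ofPred_eq] at hk
    exact sign_eq_one_iff.mp ((hsx k).trans hk.1)
  have s1 := Finset.sum_nonpos hA
  have s2 := Finset.sum_nonneg fun k hk => (hB k hk).le
  refine ⟨by linarith, fun e => ?_⟩
  rw [le_iff_parab_subset]
  intro k hk
  change F.sgn k ≠ -1
  intro hneg
  have hlt : P.root' k x < 0 := sign_eq_neg_one_iff.mp ((hsx k).trans hneg)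
  have hkA : k ∈ A \ B := by
    simp only [A, B, Finset.mem_sdiff, Set.Finite.mem_toFinset, RootCh.Facet.posPart, mem_ofPred_eq]
    exact ⟨hk, by rw [hneg]; decide⟩
  have : ∑ l ∈ A \ B, P.root' l x < 0 :=
    Finset.sum_neg' hA ⟨k, hkA, hlt⟩
  linarith

/-- A facet of maximal degree which is extremal among those is special. -/
theorem special_of_max (F : RootCh.Facet P) {b : P.Base} (hb : b ∈ F.cham)
    (hmax : ∀ (G : RootCh.Facet P) (c : P.Base), c ∈ G.cham → G.deg d c ≤ F.deg d b)
    (hmaxl : ∀ (G : RootCh.Facet P) (c : P.Base), c ∈ G.cham → G.deg d c = F.deg d b → F ≤ G → G = F) :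
    RootCh.IsSpecial d F := by
  obtain ⟨y, hy, hyp⟩ := exists_point F (d b)
  have hdeg : ∀ c ∈ F.cham, ∀ η ∈ killed F, P.toLinearMap η y = P.toLinearMap η (d c) :=
    fun c hc η hη => by rw [hyp η hη, pairing_eq hd F hb hc hη]
  refine ⟨y, (mem_dualCarrier_iff F hb hy).mpr fun i hi => ?_, ?_⟩
  · -- dropping the corner `i`
    let J : Finset b.support := (Finset.univ.filter fun j : b.support => F.sgn j = 1).erase i
    let G := facetOf b J
    have hGb : b ∈ G.cham := mem_cham_facetOf b J
    have hGs : ∀ j : b.support, G.sgn j = if F.sgn j = 1 ∧ j ≠ i then 1 else 0 := fun j => by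
      simp only [G, J, sgn_facetOf_simple, Finset.mem_erase, Finset.mem_filter, Finset.mem_univ,
        true_and, and_comm]
    have hFG : F ≤ G := by
      rw [le_iff_parab_subset]
      intro k hk
      change G.sgn k ≠ -1
      intro hneg
      have hkp : ¬ b.IsPos k := fun h => sgn_ne_neg_one G hGb h hneg
      have hn := (isPos_negIdx b k).mpr hkp
      have h0 : F.sgn (negIdx P k) = 0 := by
        rw [sgn_negIdx]
        have := sgn_ne_neg_one F hb hn
        rw [sgn_negIdx] at this
        rcases (F.sgn k).trichotomy with e | e | e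
        · exact absurd e hk
        · rw [e]; rfl
        · exact absurd (by rw [e]) this
      have h1 : G.sgn (negIdx P k) = 0 := by
        rw [sgn_eq_zero_iff_coef G hGb hn]
        intro j hj
        refine (sgn_eq_zero_iff_coef F hb hn).mp h0 j ?_
        rw [hGs] at hj
        split_ifs at hj with h
        exact h.1
      rw [sgn_negIdx, hneg] at h1
      exact absurd h1 (by decide)
    have hne : G ≠ F := fun e => by
      have := hGs i
      rw [e, hi, if_neg (fun h => h.2 rfl)] at this
      exact absurd this (by decide)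
    have hlt : G.deg d b < F.deg d b :=
      lt_of_le_of_ne (hmax G b hGb) fun e => hne (hmaxl G b hGb e hFG)
    have hkG : killed G ≤ killed F := fun η hη => mem_killed.mpr fun l hl =>
      mem_killed.mp hη l ((hFG l).elim id fun e => e.trans hl)
    rw [deg_eq hd, deg_eq hd, ← hyp _ (rho_mem_killed F), ← hyp _ (hkG (rho_mem_killed G))] at hlt
    by_contra hle
    rw [not_lt] at hle
    refine absurd hlt (not_lt.mpr ?_)
    rw [← sub_nonpos, ← LinearMap.sub_apply, ← map_sub]
    have e : rho F - rho G = ∑ k ∈ (Set.toFinite F.posPart).toFinset \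
        (Set.toFinite G.posPart).toFinset, P.root k := by
      rw [rho, rho, sub_eq_iff_eq_add, Finset.sum_sdiff]
      intro k hk
      simp only [Set.Finite.mem_toFinset, RootCh.Facet.posPart, mem_ofPred_eq] at hk ⊢
      exact ((hFG k).resolve_left (by rw [hk]; decide)).symm.trans hk
    rw [e, map_sum, LinearMap.sum_apply]
    refine Finset.sum_nonpos fun k hk => ?_
    simp only [Finset.mem_sdiff, Set.Finite.mem_toFinset, RootCh.Facet.posPart, mem_ofPred_eq] at hk
    have hkp := isPos_of_sgn F hb hk.1
    have hz : ∀ j : b.support, G.sgn j = 1 → P.root' k (RootCh.fundCoweight b j) = 0 := by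
      refine (sgn_eq_zero_iff_coef G hGb hkp).mp ?_
      rcases (G.sgn k).trichotomy with a | a | a
      · exact absurd a (sgn_ne_neg_one G hGb hkp)
      · exact a
      · exact absurd a hk.2
    change P.root' k y ≤ 0
    rw [coweight_eq_sum b y, map_sum]
    refine Finset.sum_nonpos fun j _ => ?_
    rw [map_smul, smul_eq_mul]
    rcases sgn_simple F hb j.2 with a | a
    · rw [(mem_span_dualCarrier_iff F).mp hy j a, zero_mul]
    · by_cases hji : j = i
      · subst hji
        exact mul_nonpos_of_nonpos_of_nonneg hle (root'_nonneg b hkp j)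
      · rw [hz j (by rw [hGs, if_pos ⟨a, hji⟩]), mul_zero]
  · refine mem_dualSolid_of_forall hd F (fun c hc i hi => hdeg c hc _ ?_) fun c hc i hi => ?_
    · rw [← span_corners_eq_killed, corners_eq F hc]
      exact Submodule.subset_span ⟨i, hi, rfl⟩
    -- adding the corner `i`
    let J : Finset c.support := insert i (Finset.univ.filter fun j : c.support => F.sgn j = 1)
    let G := facetOf c J
    have hGc : c ∈ G.cham := mem_cham_facetOf c J
    have hGs : ∀ j : c.support, G.sgn j = if j = i ∨ F.sgn j = 1 then 1 else 0 := fun j => by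
      simp only [G, J, sgn_facetOf_simple, Finset.mem_insert, Finset.mem_filter, Finset.mem_univ,
        true_and]
    have hGF : ∀ k, G.sgn k = 0 → F.sgn k = 0 := by
      have aux : ∀ k, c.IsPos k → G.sgn k = 0 → F.sgn k = 0 := fun k hk h =>
        (sgn_eq_zero_iff_coef F hc hk).mpr fun j hj =>
          (sgn_eq_zero_iff_coef G hGc hk).mp h j (by rw [hGs, if_pos (Or.inr hj)])
      intro k h
      by_cases hk : c.IsPos k
      · exact aux k hk h
      · have := aux _ ((isPos_negIdx c k).mpr hk) (by rw [sgn_negIdx, h]; rfl)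
        rw [sgn_negIdx] at this
        rw [← neg_neg (F.sgn k), this]; rfl
    have hle : P.toLinearMap (rho G) (d c) ≤ P.toLinearMap (rho F) (d c) := by
      have := hmax G c hGc
      rw [deg_eq hd, deg_eq hd, pairing_eq hd F hb hc (rho_mem_killed F)] at this
      exact this
    have hGpos : ∀ k ∈ (Set.toFinite F.posPart).toFinset, k ∈ (Set.toFinite G.posPart).toFinset := by
      intro k hk
      simp only [Set.Finite.mem_toFinset, RootCh.Facet.posPart, mem_ofPred_eq] at hk ⊢
      have hkp := isPos_of_sgn F hc hk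
      rcases (G.sgn k).trichotomy with a | a | a
      · exact absurd a (sgn_ne_neg_one G hGc hkp)
      · rw [hGF k a] at hk; exact absurd hk (by decide)
      · exact a
    have hτy : P.toLinearMap (rho G - rho F) y = 0 := by
      rw [show rho G - rho F = ∑ k ∈ (Set.toFinite G.posPart).toFinset \
        (Set.toFinite F.posPart).toFinset, P.root k from by
          rw [rho, rho, sub_eq_iff_eq_add, Finset.sum_sdiff hGpos], map_sum, LinearMap.sum_apply]
      refine Finset.sum_eq_zero fun k hk => ?_
      simp only [Finset.mem_sdiff, Set.Finite.mem_toFinset, RootCh.Facet.posPart, mem_ofPred_eq] at hk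
      refine (mem_span_dualCarrier_iff F).mp hy k ?_
      rcases (F.sgn k).trichotomy with a | a | a
      · exact absurd a (sgn_ne_neg_one F hc (isPos_of_sgn G hGc hk.1))
      · exact a
      · exact absurd a hk.2
    -- `t • ω - (ρ_G - ρ_F)` lies in the span of the facet
    have hρG := rho_mem_killed G
    have ht : 0 < P.coroot' i (rho G) := coroot'_rho_pos G (by rw [hGs, if_pos (Or.inl rfl)])
    have hu : P.coroot' i (rho G) • RootCh.fundWeight c i - (rho G - rho F) ∈ killed F := by
      rw [← span_corners_eq_killed, corners_eq F hc]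
      conv in (_ - (rho G - rho F)) => rw [weight_eq_sum c (_ - (rho G - rho F))]
      refine Submodule.sum_mem _ fun j _ => ?_
      rcases sgn_simple F hc j.2 with a | a
      · have : P.coroot' j (P.coroot' i (rho G) • RootCh.fundWeight c i - (rho G - rho F)) = 0 := by
          rw [map_sub, map_sub, map_smul, mem_killed.mp (rho_mem_killed F) j a, coroot'_fundWeight]
          by_cases hji : j = i
          · subst hji; simp
          · rw [if_neg hji, mem_killed.mp hρG j (by rw [hGs, if_neg (by
              rintro (h | h)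
              · exact hji h
              · rw [a] at h; exact absurd h (by decide))])]
            simp
        rw [this, zero_smul]; exact Submodule.zero_mem _
      · exact Submodule.smul_mem _ _ (Submodule.subset_span ⟨j, a, rfl⟩)
    have e := hdeg c hc _ hu
    simp only [map_sub, map_smul, LinearMap.sub_apply, LinearMap.smul_apply, smul_eq_mul] at e hτy
    refine le_of_mul_le_mul_left ?_ ht
    linarith

theorem existsUnique_special : ∃! F : RootCh.Facet P, RootCh.IsSpecial d F := by
  haveI : Finite (RootCh.Facet P) :=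
    Finite.of_injective RootCh.Facet.parab parab_injective
  haveI := Fintype.ofFinite (RootCh.Facet P)
  have hch : ∀ F : RootCh.Facet P, ∃ b, b ∈ F.cham := fun F => cham_nonempty F
  choose ch hch using hch
  have hdeg : ∀ (G : RootCh.Facet P) (c : P.Base), c ∈ G.cham → G.deg d c = G.deg d (ch G) :=
    fun G c hc => by rw [deg_eq hd, deg_eq hd, pairing_eq hd G hc (hch G) (rho_mem_killed G)]
  obtain ⟨F₀, -, hF₀⟩ := Finset.exists_max_image Finset.univ (fun G => G.deg d (ch G))
    ⟨RootCh.Facet.origin P, Finset.mem_univ _⟩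
  let s : Finset (RootCh.Facet P) :=
    Finset.univ.filter fun G => G.deg d (ch G) = F₀.deg d (ch F₀)
  obtain ⟨F, hF⟩ := s.exists_maximal ⟨F₀, by simp [s]⟩
  have hFd : F.deg d (ch F) = F₀.deg d (ch F₀) := (Finset.mem_filter.mp hF.prop).2
  have hsp : RootCh.IsSpecial d F := by
    refine special_of_max hd F (hch F) (fun G c hc => ?_) fun G c hc e hle => ?_
    · rw [hdeg G c hc, hFd]; exact hF₀ G (Finset.mem_univ _)
    · rw [hdeg G c hc, hFd] at e
      exact le_antisymm (hF.le_of_ge (Finset.mem_filter.mpr ⟨Finset.mem_univ _, e⟩) hle) hle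
  refine ⟨F, hsp, fun G hG => ?_⟩
  have h1 := deg_le_of_special hd F (hch F) hsp G (hch G)
  have h2 := deg_le_of_special hd G (hch G) hG F (hch F)
  exact le_antisymm (h1.2 (le_antisymm h1.1 h2.1)) (h2.2 (le_antisymm h2.1 h1.1))

end Groth.Agent.H84.RC
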